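import Groth.Agent.SurfNum.Lattice
import Groth.Agent.Inter.NakaiCor
import Groth.Agent.PicAux.EffCartierSection
import Groth.Agent.Chow.AmpleTwist

/-!
# The positive, nef and ample cones of a surface
-/

universe u

open CategoryTheory CategoryTheory.Limits AlgebraicGeometry TopologicalSpace

namespace Groth.SurfNum

open Groth.Inter

variable (k : Type u) [Field k] {X : Scheme.{u}} [X.Over (Spec (CommRingCat.of k))]
  [IsProper (X ↘ Spec (CommRingCat.of k))] [IsIntegral X]
  (hdim : topologicalKrullDim X = 2) (hreg : ∀ x : X, IsRegularLocalRing (X.presheaf.stalk x))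

include k hdim hreg in
/-- The criterion of Nakai and Moishezon on a surface. -/
theorem isAmple_of_pair_pos {L : X.Modules} (hL : PicF.IsInvertible L) (h2 : 0 < pair k L L)
    (h1 : ∀ I : X.IdealSheafData, IsCurve I → pair k (ClSub.idealMod I) L < 0) : CohB1.IsAmple L := by
  have hN : IsNoetherian X := Groth.Inter.isNoetherian k
  obtain ⟨M, hMi, hLM⟩ := PicAux.exists_isInverseOf hL
  have hM := PicAux.isInvertible_of_isInverseOf hL hLM
  have hle : ∀ y : X, topologicalKrullDim (closure ({y} : Set X)) ≤ ((2 : ℕ) : WithBot ℕ∞) :=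
    fun y => (topologicalKrullDim_subspace_le X _).trans hdim.le
  refine isAmple_of_delta_pos k hL hLM fun ξ d hd => ?_
  have hd2 : d + 1 ≤ 2 := by exact_mod_cast hd.symm.le.trans (hle ξ)
  have hd01 : d = 0 ∨ d = 1 := by omega
  rcases hd01 with rfl | rfl
  · have hneg := delta_neg_of_forall k (L := L) (fun C ha hb => by
      rw [deg_eq k (IsCurve.isEffCartier k hdim hreg (I := C) ⟨ha, hb⟩) hL]
      linarith [h1 C ⟨ha, hb⟩]) ξ hd
    have := delta_inverse_cons k hL hLM (l := []) (by simp) (KTheory.Devissage.isCoh_closureStructureSheaf ξ)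
      ((LocCohTransform.topologicalKrullDim_mono
        (KTheory.Devissage.support_closureStructureSheaf_subset ξ)).trans hd.le)
    simp only [zero_add, List.replicate_one]
    omega
  · change 0 < delta k [M, M] (Cyc.closureStructureSheaf ξ)
    have hp : pair k M M = pair k L L := pair_inverse_inverse k hdim.le hL hLM hL hLM
    have hgen : ∀ η : X, topologicalKrullDim (closure ({η} : Set X)) = ((2 : ℕ) : WithBot ℕ∞) → η = ξ :=
      fun η hη => by
      have h3 : ∀ z : X, topologicalKrullDim (closure ({z} : Set X)) = ((2 : ℕ) : WithBot ℕ∞) →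
          z = genericPoint X := fun z hz =>
        eq_of_dim_closure (((genericPoint_spec X).def).ge trivial) (hle _) hz.ge
      rw [h3 η hη, h3 ξ hd]
    have hsum := delta_eq_sum_length k (l := [M, M]) (by simp [hM]) QCohMod.isCoh_unit
      ((LocCohTransform.topologicalKrullDim_mono (Set.subset_univ _)).trans
        ((IsHomeomorph.topologicalKrullDim_eq _ (Homeomorph.Set.univ X).isHomeomorph).trans hdim).le) ({ξ} : Finset X)
      (fun η => by
        simp only [Finset.mem_singleton, List.length_cons, List.length_nil]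
        refine ⟨?_, fun h => hgen η h.2⟩
        rintro rfl
        refine ⟨fun h => ?_, hd⟩
        have := (RefRank.oneEquiv η).toEquiv.nontrivial_congr.1 inferInstance
        exact not_subsingleton _ h)
    rw [Finset.sum_singleton] at hsum
    change pair k M M = _ at hsum
    rw [hp] at hsum
    by_contra hcon
    push Not at hcon
    have := mul_nonpos_of_nonneg_of_nonpos
      (Int.natCast_nonneg ((Module.length (X.presheaf.stalk ξ) ((Coh.structureModule X).presheaf.stalk ξ)).toNat))
      hcon
    linarith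

variable [PicGrp.Law X]

open Classical in
/-- The class of a curve, and zero for an ideal which is not invertible. -/
noncomputable def curveClass (I : X.IdealSheafData) : NumR.N1R k X :=
  if h : PicF.IsInvertible (ClSub.idealMod I) then NumR.curveCl k X I h else 0

omit [IsProper (X ↘ Spec (CommRingCat.of k))] [IsIntegral X] in
theorem curveClass_eq {I : X.IdealSheafData} (hI : PicF.IsInvertible (ClSub.idealMod I)) :
    curveClass k I = NumR.curveCl k X I hI := dif_pos hI

variable {B : NumR.N1R k X →ₗ[ℝ] NumR.N1R k X →ₗ[ℝ] ℝ} (hB : NumR.IsIntForm₂ k X B)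

include hdim hreg hB in
theorem form_curveClass {L : X.Modules} (hL : PicF.IsInvertible L) {I : X.IdealSheafData} (hI : IsCurve I) :
    B (NumR.clR k X L hL) (curveClass k I) = - (pair k (ClSub.idealMod I) L : ℝ) := by
  rw [curveClass_eq k (hI.isInvertible k hdim hreg), form_curveCl k hdim hB]

include hdim hreg hB in
theorem curve_inter_nonneg {I J : X.IdealSheafData} (hI : IsCurve I) (hJ : IsCurve J) (hne : I ≠ J) :
    0 ≤ B (curveClass k I) (curveClass k J) := by
  rw [curveClass_eq k (hI.isInvertible k hdim hreg), curveClass_eq k (hJ.isInvertible k hdim hreg),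
    form_curveCl_curveCl k hdim hB]
  exact_mod_cast pair_nonneg_of_ne k hdim hreg hI hJ hne

/-- The nef condition, phrased with curves. -/
def Nef (B : NumR.N1R k X →ₗ[ℝ] NumR.N1R k X →ₗ[ℝ] ℝ) (x : NumR.N1R k X) : Prop :=
  ∀ I : X.IdealSheafData, IsCurve I → 0 ≤ B x (curveClass k I)

include hdim hreg in
theorem mem_nefCone_iff {x : NumR.N1R k X} : x ∈ NumR.nefCone₂ k X B ↔ Nef k B x := by
  refine ⟨fun h I hI => ?_, fun h I h1 h2 hI => ?_⟩
  · rw [curveClass_eq k (hI.isInvertible k hdim hreg)]
    exact h I hI.1 hI.2 _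
  · rw [← curveClass_eq k hI]
    exact h I ⟨h1, h2⟩

variable [Module.Finite ℝ (NumR.N1R k X)]

include hdim hreg hB in
/-- The class of a module with a section is a combination of classes of curves. -/
theorem exists_curves {L : X.Modules} (hL : PicF.IsInvertible L) (h : Nontrivial (Coh.HH X L 0)) :
    ∃ (s : Finset X) (m : X → ℕ), (∀ y ∈ s, IsCurve (IntMult.ptIdeal y)) ∧
      NumR.clR k X L hL = ∑ y ∈ s, (m y : ℝ) • curveClass k (IntMult.ptIdeal y) := by
  obtain ⟨φ, hφ⟩ := (nontrivial_h0_iff k L).1 h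
  have hreg' := PicAux.regularSection_of_ne_zero hL hφ
  set D := PicF2.zeroScheme L φ
  have hD : BlowUp.IsEffCartierIdeal D := PicAux.isEffCartierIdeal_zeroScheme hL hreg'
  have hDL : ClSub.IsInverseOf L (ClSub.idealMod D) := PicAux.isInverseOf_zeroScheme hL hreg'
  obtain ⟨s, m, hs, hsum⟩ := exists_pair_eq_sum k hdim hD
  refine ⟨s, m, fun y hy => (hs y hy).1, sub_eq_zero.1 (eq_zero_of_form k hdim hreg hB fun M hM => ?_)⟩
  have hsym := form_symm k hdim hB
  have e1 : NumR.clR k X L hL = - NumR.clR k X (ClSub.idealMod D) (PicAux.isInvertible_idealMod hD) := by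
    rw [clR_inverse k hL _ hDL, neg_neg]
  rw [map_sub, LinearMap.sub_apply, sub_eq_zero, e1, map_neg, LinearMap.neg_apply, form_clR k hdim hB,
    hsum M hM, map_sum, LinearMap.sum_apply, Int.cast_sum, ← Finset.sum_neg_distrib]
  refine Finset.sum_congr rfl fun y hy => ?_
  have hy' := (hs y hy).1
  rw [map_smul, LinearMap.smul_apply, smul_eq_mul, hsym, form_curveClass k hdim hreg hB hM hy',
    pair_idealMod k (hy'.isEffCartier k hdim hreg) hM]
  push_cast
  ring

omit [IsProper (X ↘ Spec (CommRingCat.of k))] [IsIntegral X] in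
/-- Convex sets containing the rational points of an open set contain the set. -/
theorem mem_of_lattice {U K : Set (NumR.N1R k X)} (hU : IsOpen U) (hK : Convex ℝ K) {y : NumR.N1R k X} (hy : y ∈ U)
    (h : ∀ (N : ℕ) (L : X.Modules) (hL : PicF.IsInvertible L), 0 < N →
      (N : ℝ)⁻¹ • NumR.clR k X L hL ∈ U → (N : ℝ)⁻¹ • NumR.clR k X L hL ∈ K) : y ∈ K := by
  obtain ⟨n, b, A, hA, hb⟩ := exists_basis k (X := X)
  refine convexHull_min ?_ hK (mem_convexHull_lattice b hU hy)
  rintro z ⟨hz, N, m, hN, rfl⟩
  obtain ⟨L, hL, -, hLR⟩ := exists_clR_eq_sum k A hA m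
  have e : ∑ i, (m i : ℝ) • b i = NumR.clR k X L hL := by
    rw [hLR]; exact Finset.sum_congr rfl fun i _ => by rw [hb i]
  rw [e] at hz ⊢
  exact h N L hL hN hz

variable {H : X.Modules} (hH : CohB1.IsAmple H)

omit [IsProper (X ↘ Spec (CommRingCat.of k))] [IsIntegral X] in
theorem continuous_form (x : NumR.N1R k X) : Continuous fun y => B y x :=
  IsModuleTopology.continuous_of_linearMap (B.flip x)

omit [IsProper (X ↘ Spec (CommRingCat.of k))] [IsIntegral X] in
theorem continuous_form_self : Continuous fun y : NumR.N1R k X => B y y :=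
  (IsModuleTopology.continuous_bilinear_of_finite_left B).comp (continuous_id.prodMk continuous_id)

omit [IsProper (X ↘ Spec (CommRingCat.of k))] [IsIntegral X] in
theorem isOpen_posCone : IsOpen (NumR.posCone k X B H hH.1) :=
  (isOpen_lt continuous_const (continuous_form_self k)).inter
    (isOpen_lt continuous_const (continuous_form k _))

include hdim hreg hB in
theorem posCone_add {x y : NumR.N1R k X} (hx : x ∈ NumR.posCone k X B H hH.1)
    (hy : y ∈ NumR.posCone k X B H hH.1) : x + y ∈ NumR.posCone k X B H hH.1 :=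
  ⟨(isLorentz k hdim hreg hB hH).pos_add hx.1 hx.2 hy.1 hy.2,
    by rw [map_add, LinearMap.add_apply]; exact add_pos hx.2 hy.2⟩

omit [IsProper (X ↘ Spec (CommRingCat.of k))] [IsIntegral X] [Module.Finite ℝ (NumR.N1R k X)] in
theorem posCone_smul {x : NumR.N1R k X} {c : ℝ} (hc : 0 < c) (hx : x ∈ NumR.posCone k X B H hH.1) :
    c • x ∈ NumR.posCone k X B H hH.1 :=
  ⟨by simp only [map_smul, LinearMap.smul_apply, smul_eq_mul]; exact mul_pos hc (mul_pos hc hx.1),
    by simp only [map_smul, LinearMap.smul_apply, smul_eq_mul]; exact mul_pos hc hx.2⟩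

include hdim hreg hB in
theorem convex_posCone : Convex ℝ (NumR.posCone k X B H hH.1) := by
  refine convex_iff_forall_pos.2 fun x hx y hy a b ha hb _ => ?_
  exact posCone_add k hdim hreg hB hH (posCone_smul k hH ha hx) (posCone_smul k hH hb hy)

include hdim hreg hB hH in
/-- The ample classes lie in the positive cone. -/
theorem ampleCone_subset_posCone : (NumR.ampleCone k X : Set (NumR.N1R k X)) ⊆ NumR.posCone k X B H hH.1 := by
  let C : ConvexCone ℝ (NumR.N1R k X) :=
    { carrier := NumR.posCone k X B H hH.1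
      smul_mem' := fun c hc x hx => posCone_smul k hH hc hx
      add_mem' := fun x hx y hy => posCone_add k hdim hreg hB hH hx hy }
  suffices h : NumR.ampleCone k X ≤ C from h
  refine ConvexCone.hull_min ?_
  rintro _ ⟨L, hL, hLa, rfl⟩
  refine ⟨by rw [form_clR k hdim hB]; exact_mod_cast pair_self_pos k hdim hLa, ?_⟩
  rw [form_clR k hdim hB hL hH.1]
  obtain ⟨n₀, hn₀⟩ := exists_sections k hdim hLa hL (pair_self_pos k hdim hLa) (pair_self_pos k hdim hLa).le
  have h1 := pair_nonneg_of_nontrivial k hdim hH (PicAux.isInvertible_tensorPow hL (n₀ + 1)) (hn₀ _ (by omega))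
  rw [pair_pow k hdim.le hL hH.1] at h1
  have h2 := pair_ne_zero k hdim hH hL (pair_self_pos k hdim hLa)
  have : 0 < pair k L H := lt_of_le_of_ne (nonneg_of_mul_nonneg_right h1 (by exact_mod_cast n₀.succ_pos)) h2.symm
  exact_mod_cast this

include hdim hreg hB in
theorem ampleCone_curve_pos {x : NumR.N1R k X} (hx : x ∈ NumR.ampleCone k X) {I : X.IdealSheafData}
    (hI : IsCurve I) : 0 < B x (curveClass k I) := by
  let C : ConvexCone ℝ (NumR.N1R k X) :=
    { carrier := {x | 0 < B x (curveClass k I)}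
      smul_mem' := fun c hc x hx => by
        simp only [Set.mem_ofPred_eq, map_smul, LinearMap.smul_apply, smul_eq_mul]; exact mul_pos hc hx
      add_mem' := fun x hx y hy => by
        simp only [Set.mem_ofPred_eq, map_add, LinearMap.add_apply]; exact add_pos hx hy }
  suffices h : NumR.ampleCone k X ≤ C from h hx
  refine ConvexCone.hull_min ?_
  rintro _ ⟨L, hL, hLa, rfl⟩
  change (0 : ℝ) < B _ _
  rw [form_curveClass k hdim hreg hB hL hI, neg_pos]
  exact_mod_cast hI.pair_neg k hdim hreg hLa

include k in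
omit [Module.Finite ℝ (NumR.N1R k X)] [IsIntegral X] in
theorem exists_ample_perturb {x : NumR.N1R k X} (hx : x ∈ NumR.ampleCone k X) {M : X.Modules}
    (hM : PicF.IsInvertible M) :
    ∃ ε : ℝ, 0 < ε ∧ ∀ t : ℝ, 0 ≤ t → t ≤ ε → x + t • NumR.clR k X M hM ∈ NumR.ampleCone k X := by
  let P : ConvexCone ℝ (NumR.N1R k X) :=
    { carrier := {y | y ∈ NumR.ampleCone k X ∧ ∃ ε : ℝ, 0 < ε ∧ ∀ t : ℝ, 0 ≤ t → t ≤ ε →
        y + t • NumR.clR k X M hM ∈ NumR.ampleCone k X}
      smul_mem' := fun c hc y ⟨hy, ε, hε, h⟩ => ⟨(NumR.ampleCone k X).smul_mem hc hy, c * ε, mul_pos hc hε,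
        fun t ht0 ht => by
          have h1 := (NumR.ampleCone k X).smul_mem hc (h (t / c) (div_nonneg ht0 hc.le) (by
            rw [div_le_iff₀ hc]; linarith [mul_comm c ε]))
          rwa [smul_add, smul_smul, mul_div_cancel₀ _ hc.ne'] at h1⟩
      add_mem' := fun y ⟨hy, ε, hε, h⟩ y' ⟨hy', _⟩ => ⟨(NumR.ampleCone k X).add_mem hy hy', ε, hε,
        fun t ht0 ht => by rw [add_right_comm]; exact (NumR.ampleCone k X).add_mem (h t ht0 ht) hy'⟩ }
  refine ((ConvexCone.hull_min (C := P) ?_) hx).2
  rintro _ ⟨L, hL, hLa, rfl⟩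
  have hL' : NumR.clR k X L hL ∈ NumR.ampleCone k X := Misc13.BigNum.mem_coneOf k hL hLa
  refine ⟨hL', ?_⟩
  obtain ⟨n, hn, hamp⟩ := Chow.exists_twist_isAmple hLa hM
  have hn0 : (0 : ℝ) < n := Nat.cast_pos.2 hn
  have h0 : (n : ℝ) • NumR.clR k X L hL + NumR.clR k X M hM ∈ NumR.ampleCone k X := by
    rw [← Misc13.BigNum.clR_pow, ← Misc13.BigNum.clR_tensor]
    exact Misc13.BigNum.mem_coneOf k _ (hamp n le_rfl).1
  refine ⟨1 / (2 * n), by positivity, fun t ht ht' => ?_⟩
  rcases ht.eq_or_lt with rfl | ht0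
  · simpa using hL'
  have h1 : 0 < 1 - t * n := by
    rw [le_div_iff₀ (by positivity)] at ht'; nlinarith
  have h2 := (NumR.ampleCone k X).add_mem ((NumR.ampleCone k X).smul_mem ht0 h0)
    ((NumR.ampleCone k X).smul_mem h1 hL')
  rwa [smul_add, smul_smul, add_right_comm, ← add_smul, add_sub_cancel, one_smul] at h2

omit [IsIntegral X] in
include k in
/-- The ample cone is open. -/
theorem isOpen_ampleCone : IsOpen ((NumR.ampleCone k X : ConvexCone ℝ (NumR.N1R k X)) : Set (NumR.N1R k X)) := by
  classical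
  obtain ⟨n, b, A, hA, hb⟩ := exists_basis k (X := X)
  refine isOpen_iff_mem_nhds.2 fun x hx => ?_
  rcases Nat.eq_zero_or_pos n with rfl | hn
  · have huniv : ∀ y : NumR.N1R k X, y = x := fun y => b.repr.injective (Subsingleton.elim _ _)
    exact Filter.mem_of_superset Filter.univ_mem fun y _ => by rwa [huniv y]
  have hn0 : (0 : ℝ) < n := Nat.cast_pos.2 hn
  have hε : ∀ j, ∃ ε : ℝ, 0 < ε ∧ ∀ t : ℝ, |t| ≤ ε → x + t • b j ∈ NumR.ampleCone k X := fun j => by
    obtain ⟨M', hM', hMM'⟩ := PicAux.exists_isInverseOf (hA j)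
    have hM'i := PicAux.isInvertible_of_isInverseOf (hA j) hMM'
    obtain ⟨e₁, he₁, h₁⟩ := exists_ample_perturb k hx (hA j)
    obtain ⟨e₂, he₂, h₂⟩ := exists_ample_perturb k hx hM'i
    refine ⟨min e₁ e₂, lt_min he₁ he₂, fun t ht => ?_⟩
    rw [hb j]
    rcases le_or_gt 0 t with h | h
    · exact h₁ t h ((le_abs_self t).trans (ht.trans (min_le_left _ _)))
    · have h3 := h₂ (-t) (by linarith) ((neg_le_abs t).trans (ht.trans (min_le_right _ _)))
      rwa [clR_inverse k (hA j) hM'i hMM', neg_smul, smul_neg, neg_neg] at h3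
  choose ε hεpos hε using hε
  have hcont : Continuous b.equivFun := IsModuleTopology.continuous_of_linearMap b.equivFun.toLinearMap
  have hmem : ∀ᶠ y in nhds x, ∀ j, |(n : ℝ) * (b.equivFun y j - b.equivFun x j)| ≤ ε j := by
    rw [Filter.eventually_all]
    intro j
    have hc : Continuous fun y => |(n : ℝ) * (b.equivFun y j - b.equivFun x j)| :=
      (continuous_const.mul (((continuous_apply j).comp hcont).sub continuous_const)).abs
    refine (hc.tendsto x).eventually (eventually_le_nhds ?_)
    simpa using hεpos j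
  refine Filter.mem_of_superset hmem fun y hy => ?_
  have hmem' := (NumR.ampleCone k X).convex.sum_mem (t := (Finset.univ : Finset (Fin n)))
    (w := fun _ => 1 / (n : ℝ)) (z := fun j => x + ((n : ℝ) * (b.equivFun y j - b.equivFun x j)) • b j)
    (fun _ _ => by positivity)
    (by rw [Finset.sum_const, Finset.card_univ, Fintype.card_fin, nsmul_eq_mul]; field_simp)
    (fun j _ => hε j _ (hy j))
  have e : ∑ j : Fin n, (1 / (n : ℝ)) • (x + ((n : ℝ) * (b.equivFun y j - b.equivFun x j)) • b j) = y := by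
    have e1 : ∀ j : Fin n, (1 / (n : ℝ)) • (x + ((n : ℝ) * (b.equivFun y j - b.equivFun x j)) • b j) =
        (1 / (n : ℝ)) • x + (b.equivFun y j • b j - b.equivFun x j • b j) := fun j => by
      rw [smul_add, smul_smul, ← sub_smul, ← mul_assoc, one_div, inv_mul_cancel₀ hn0.ne', one_mul]
    rw [Finset.sum_congr rfl fun j _ => e1 j, Finset.sum_add_distrib, Finset.sum_sub_distrib, b.sum_equivFun,
      b.sum_equivFun, Finset.sum_const, Finset.card_univ, Fintype.card_fin, ← Nat.cast_smul_eq_nsmul ℝ, smul_smul,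
      one_div, mul_inv_cancel₀ hn0.ne', one_smul]
    abel
  rwa [e] at hmem'

include hdim hreg hB hH in
/-- A nef class pairs nonnegatively with the positive cone. -/
theorem nef_pairing_nonneg {z : NumR.N1R k X} (hz : Nef k B z) {y : NumR.N1R k X}
    (hy : y ∈ NumR.posCone k X B H hH.1) : 0 ≤ B z y := by
  have hK : Convex ℝ {w | 0 ≤ B z w} := convex_halfSpace_ge (f := fun w => B z w) (B z).isLinear 0
  refine mem_of_lattice k (K := {w | 0 ≤ B z w}) (isOpen_posCone k hH) hK hy fun N L hL hN hmem => ?_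
  have hN' : (0 : ℝ) < N := Nat.cast_pos.2 hN
  have hL' := posCone_smul k hH hN' hmem
  rw [smul_smul, mul_inv_cancel₀ hN'.ne', one_smul] at hL'
  have h1 : 0 < pair k L L := by
    have := hL'.1; rw [form_clR k hdim hB] at this; exact_mod_cast this
  have h2 : 0 < pair k L H := by
    have := hL'.2; rw [form_clR k hdim hB] at this; exact_mod_cast this
  obtain ⟨n₀, hn₀⟩ := exists_sections k hdim hH hL h1 h2.le
  obtain ⟨s, m, hs, hsum⟩ := exists_curves k hdim hreg hB (PicAux.isInvertible_tensorPow hL (n₀ + 1))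
    (hn₀ _ (by omega))
  rw [Misc13.BigNum.clR_pow k hL] at hsum
  have h3 : 0 ≤ B z (((n₀ + 1 : ℕ) : ℝ) • NumR.clR k X L hL) := by
    rw [hsum, map_sum]
    exact Finset.sum_nonneg fun y hy => by
      rw [map_smul, smul_eq_mul]; exact mul_nonneg (by positivity) (hz _ (hs y hy))
  rw [map_smul, smul_eq_mul] at h3
  change 0 ≤ B z _
  rw [map_smul, smul_eq_mul]
  exact mul_nonneg (by positivity) (nonneg_of_mul_nonneg_right h3 (by positivity))

include hdim hB hH in
theorem h_mem_posCone : NumR.clR k X H hH.1 ∈ NumR.posCone k X B H hH.1 := by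
  constructor <;> (rw [form_clR k hdim hB]; exact_mod_cast pair_self_pos k hdim hH)

include hdim hreg hB hH in
/-- A nef class has nonnegative square. -/
theorem nef_self_nonneg {z : NumR.N1R k X} (hz : Nef k B z) : 0 ≤ B z z := by
  have L := isLorentz k hdim hreg hB hH
  set h := NumR.clR k X H hH.1
  have hzh : 0 ≤ B z h := nef_pairing_nonneg k hdim hreg hB hH hz (h_mem_posCone k hdim hB hH)
  by_contra hneg
  push Not at hneg
  have hk : 0 < B h h := L.pos
  -- the positive root
  set D := B z h * B z h - B h h * B z z with hD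
  have hD0 : 0 < D := by nlinarith
  set t₀ := (- B z h + Real.sqrt D) / B h h with ht₀
  have hsq : Real.sqrt D * Real.sqrt D = D := Real.mul_self_sqrt hD0.le
  have hroot : B z z + 2 * t₀ * B z h + t₀ * t₀ * B h h = 0 := by
    rw [ht₀]; field_simp; nlinarith
  have hlt : B z h < Real.sqrt D := by nlinarith [Real.sqrt_nonneg D]
  have ht0 : 0 < t₀ := div_pos (by linarith) hk
  have hgt : ∀ t : ℝ, t₀ < t → 0 ≤ B z z + t * B z h := fun t ht => by
    have hmem : z + t • h ∈ NumR.posCone k X B H hH.1 := by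
      constructor
      · simp only [map_add, map_smul, LinearMap.add_apply, LinearMap.smul_apply, smul_eq_mul, L.symm h z]
        nlinarith [mul_pos (sub_pos.2 ht) (mul_pos ht0 hk), mul_nonneg (sub_nonneg.2 ht.le) hzh,
          mul_pos (mul_pos (sub_pos.2 ht) (sub_pos.2 ht)) hk]
      · simp only [map_add, map_smul, LinearMap.add_apply, LinearMap.smul_apply, smul_eq_mul]
        have := mul_pos (ht0.trans ht) hk
        linarith
    have := nef_pairing_nonneg k hdim hreg hB hH hz hmem
    simpa [map_add, map_smul] using this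
  have hlim : 0 ≤ B z z + t₀ * B z h := by
    rcases hzh.eq_or_lt with h0 | h0
    · have := hgt (t₀ + 1) (by linarith)
      rw [← h0] at this ⊢
      linarith
    · by_contra hc
      push Not at hc
      have := hgt (t₀ + (-(B z z + t₀ * B z h)) / (2 * B z h)) (by
        have : 0 < (-(B z z + t₀ * B z h)) / (2 * B z h) := div_pos (by linarith) (by linarith)
        linarith)
      rw [show B z z + (t₀ + (-(B z z + t₀ * B z h)) / (2 * B z h)) * B z h = (B z z + t₀ * B z h) / 2 by
        field_simp; ring] at this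
      linarith
  nlinarith [mul_nonneg ht0.le hzh, mul_pos (mul_pos ht0 ht0) hk]

include hdim hreg hB hH in
/-- Nef plus ample is ample. -/
theorem nef_add_ample {x y : NumR.N1R k X} (hx : Nef k B x) (hy : y ∈ NumR.ampleCone k X) :
    x + y ∈ NumR.ampleCone k X := by
  have hc : Continuous fun w : NumR.N1R k X => w + (-1 : ℝ) • x := continuous_id.add continuous_const
  have hU := (isOpen_ampleCone k (X := X)).preimage hc
  refine mem_of_lattice k (K := (NumR.ampleCone k X : Set (NumR.N1R k X))) hU (NumR.ampleCone k X).convex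
    (show x + y + (-1 : ℝ) • x ∈ NumR.ampleCone k X by
      convert hy using 1; module) fun N L hL hN hmem => ?_
  set w := (N : ℝ)⁻¹ • NumR.clR k X L hL with hw
  have ha : w + (-1 : ℝ) • x ∈ NumR.ampleCone k X := hmem
  have he : w = x + (w + (-1 : ℝ) • x) := by module
  have hww : 0 < B w w := by
    generalize w + (-1 : ℝ) • x = u at ha he
    rw [he]
    have h1 := nef_pairing_nonneg k hdim hreg hB hH hx (ampleCone_subset_posCone k hdim hreg hB hH ha)
    have h2 := (ampleCone_subset_posCone k hdim hreg hB hH ha).1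
    have h3 := nef_self_nonneg k hdim hreg hB hH hx
    simp only [map_add, LinearMap.add_apply, form_symm k hdim hB u x]
    linarith
  have hwI : ∀ I, IsCurve I → 0 < B w (curveClass k I) := fun I hI => by
    rw [he, map_add, LinearMap.add_apply]
    exact add_pos_of_nonneg_of_pos (hx I hI) (ampleCone_curve_pos k hdim hreg hB ha hI)
  have hN' : (0 : ℝ) < N := Nat.cast_pos.2 hN
  refine (NumR.ampleCone k X).smul_mem (inv_pos.2 hN') (Misc13.BigNum.mem_coneOf k hL ?_)
  refine isAmple_of_pair_pos k hdim hreg hL ?_ fun I hI => ?_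
  · simp only [hw, map_smul, LinearMap.smul_apply, smul_eq_mul, form_clR k hdim hB] at hww
    exact_mod_cast pos_of_mul_pos_right (pos_of_mul_pos_right hww (by positivity)) (by positivity)
  · have := hwI I hI
    simp only [hw, map_smul, LinearMap.smul_apply, smul_eq_mul, form_curveClass k hdim hreg hB hL hI] at this
    have h1 := pos_of_mul_pos_right this (by positivity)
    rw [neg_pos] at h1
    exact_mod_cast h1

include hdim hreg hB hH in
/-- Almost all curves are nonnegative on a class of the positive cone. -/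
theorem exists_finite_negative {y : NumR.N1R k X} (hy : y ∈ NumR.posCone k X B H hH.1) :
    ∃ S : Set X.IdealSheafData, S.Finite ∧ ∀ I, IsCurve I → I ∉ S → 0 ≤ B y (curveClass k I) := by
  let K : Set (NumR.N1R k X) :=
    {y | ∃ S : Set X.IdealSheafData, S.Finite ∧ ∀ I, IsCurve I → I ∉ S → 0 ≤ B y (curveClass k I)}
  have hK : Convex ℝ K := by
    rintro u ⟨S, hS, hu⟩ v ⟨T, hT, hv⟩ a b ha hb _
    refine ⟨S ∪ T, hS.union hT, fun I hI hn => ?_⟩
    simp only [map_add, map_smul, LinearMap.add_apply, LinearMap.smul_apply, smul_eq_mul]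
    exact add_nonneg (mul_nonneg ha (hu I hI fun h => hn (Or.inl h))) (mul_nonneg hb (hv I hI fun h => hn (Or.inr h)))
  refine mem_of_lattice k (K := K) (isOpen_posCone k hH) hK hy fun N L hL hN hmem => ?_
  have hN' : (0 : ℝ) < N := Nat.cast_pos.2 hN
  have hL' := posCone_smul k hH hN' hmem
  rw [smul_smul, mul_inv_cancel₀ hN'.ne', one_smul] at hL'
  have h1 : 0 < pair k L L := by
    have := hL'.1; rw [form_clR k hdim hB] at this; exact_mod_cast this
  have h2 : 0 < pair k L H := by
    have := hL'.2; rw [form_clR k hdim hB] at this; exact_mod_cast this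
  obtain ⟨n₀, hn₀⟩ := exists_sections k hdim hH hL h1 h2.le
  obtain ⟨s, m, hs, hsum⟩ := exists_curves k hdim hreg hB (PicAux.isInvertible_tensorPow hL (n₀ + 1))
    (hn₀ _ (by omega))
  rw [Misc13.BigNum.clR_pow k hL] at hsum
  refine ⟨IntMult.ptIdeal '' (s : Set X), s.finite_toSet.image _, fun I hI hn => ?_⟩
  have h3 : 0 ≤ B (((n₀ + 1 : ℕ) : ℝ) • NumR.clR k X L hL) (curveClass k I) := by
    rw [hsum, map_sum, LinearMap.sum_apply]
    refine Finset.sum_nonneg fun y hy => ?_
    rw [map_smul, LinearMap.smul_apply, smul_eq_mul]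
    exact mul_nonneg (by positivity) (curve_inter_nonneg k hdim hreg hB (hs y hy) hI fun h => hn ⟨y, hy, h⟩)
  rw [map_smul, LinearMap.smul_apply, smul_eq_mul] at h3
  rw [map_smul, LinearMap.smul_apply, smul_eq_mul]
  exact mul_nonneg (by positivity) (nonneg_of_mul_nonneg_right h3 (by positivity))

include hdim hreg hB hH in
/-- The criterion of Nakai for real classes. -/
theorem mem_ampleCone {x : NumR.N1R k X} (hxx : 0 < B x x)
    (hx : ∀ I, IsCurve I → 0 < B x (curveClass k I)) : x ∈ NumR.ampleCone k X := by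
  classical
  have L := isLorentz k hdim hreg hB hH
  set h := NumR.clR k X H hH.1
  have hnef : Nef k B x := fun I hI => (hx I hI).le
  have hxh : 0 < B x h := lt_of_le_of_ne
    (nef_pairing_nonneg k hdim hreg hB hH hnef (h_mem_posCone k hdim hB hH)) (L.ne_zero_of_pos hxx).symm
  have hc : Continuous fun t : ℝ => x + (-t) • h := continuous_const.add (continuous_neg.fun_smul continuous_const)
  have hev : ∀ᶠ t : ℝ in nhds 0, x + (-t) • h ∈ NumR.posCone k X B H hH.1 :=
    (hc.tendsto 0).eventually ((isOpen_posCone k hH).mem_nhds (by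
      rw [neg_zero, zero_smul, add_zero]; exact ⟨hxx, hxh⟩))
  obtain ⟨ε, hε, hεp⟩ : ∃ ε : ℝ, 0 < ε ∧ x + (-ε) • h ∈ NumR.posCone k X B H hH.1 := by
    obtain ⟨ε, h1, h2⟩ := ((hev.filter_mono (nhdsWithin_le_nhds (s := Set.Ioi (0 : ℝ)))).and
      self_mem_nhdsWithin).exists
    exact ⟨ε, h2, h1⟩
  obtain ⟨S, hS, hnn⟩ := exists_finite_negative k hdim hreg hB hH hεp
  have hev2 : ∀ᶠ t : ℝ in nhds 0, ∀ I ∈ {I ∈ hS.toFinset | IsCurve I}, 0 < B (x + (-t) • h) (curveClass k I) := by
    rw [Finset.eventually_all]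
    intro I hI
    simp only [Finset.mem_filter] at hI
    refine (((continuous_form k (B := B) (curveClass k I)).comp hc).tendsto 0).eventually
      (eventually_gt_nhds ?_)
    simpa using hx I hI.2
  obtain ⟨δ, ⟨h2, hδ⟩, hδε⟩ : ∃ δ : ℝ, ((∀ I ∈ {I ∈ hS.toFinset | IsCurve I}, 0 < B (x + (-δ) • h) (curveClass k I)) ∧
      0 < δ) ∧ δ < ε :=
    ((((hev2.filter_mono (nhdsWithin_le_nhds (s := Set.Ioi (0 : ℝ))))).and self_mem_nhdsWithin).and
      ((eventually_lt_nhds hε).filter_mono nhdsWithin_le_nhds)).exists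
  have hz : Nef k B (x + (-δ) • h) := fun I hI => by
    by_cases hIS : I ∈ S
    · exact (h2 I (by simp [hIS, hI])).le
    · have h3 := hnn I hI hIS
      have h4 := hx I hI
      simp only [map_add, map_smul, LinearMap.add_apply, LinearMap.smul_apply, smul_eq_mul] at h3 ⊢
      have h5 : 0 ≤ (B x (curveClass k I) + -δ * B h (curveClass k I)) * ε := by
        nlinarith [mul_nonneg (sub_nonneg.2 hδε.le) h4.le, mul_nonneg hδ.le h3]
      exact nonneg_of_mul_nonneg_left h5 hε
  have := nef_add_ample k hdim hreg hB hH hz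
    ((NumR.ampleCone k X).smul_mem hδ (Misc13.BigNum.mem_coneOf k hH.1 hH : h ∈ NumR.ampleCone k X))
  convert this using 1
  module

include hdim hreg hB hH in
/-- The closure of the ample cone. -/
theorem closure_ampleCone :
    closure (NumR.ampleCone k X : Set (NumR.N1R k X)) = {x | 0 ≤ B x x ∧ Nef k B x} := by
  refine Set.Subset.antisymm (closure_minimal (fun x hx => ⟨(ampleCone_subset_posCone k hdim hreg hB hH hx).1.le,
    fun I hI => (ampleCone_curve_pos k hdim hreg hB hx hI).le⟩) ?_) fun x hx => ?_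
  · rw [Set.ofPred_and]
    refine (isClosed_le continuous_const (continuous_form_self k)).inter ?_
    rw [show {x | Nef k B x} = ⋂ I : {I : X.IdealSheafData // IsCurve I}, {x | 0 ≤ B x (curveClass k I.1)} by
      ext x; simp [Nef]]
    exact isClosed_iInter fun I => isClosed_le continuous_const (continuous_form k _)
  · set h := NumR.clR k X H hH.1
    have hc : Continuous fun t : ℝ => x + t • h := continuous_const.add (continuous_id.fun_smul continuous_const)
    have hlim : Filter.Tendsto (fun t : ℝ => x + t • h) (nhdsWithin 0 (Set.Ioi 0)) (nhds x) := by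
      simpa using (hc.tendsto 0).mono_left nhdsWithin_le_nhds
    exact mem_closure_of_tendsto hlim (Filter.eventually_of_mem self_mem_nhdsWithin fun t ht =>
      nef_add_ample k hdim hreg hB hH hx.2 ((NumR.ampleCone k X).smul_mem ht (Misc13.BigNum.mem_coneOf k hH.1 hH)))

end Groth.SurfNum
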