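import Groth.Agent.Inter.Surface
import Groth.Agent.Inter.NakaiCor
import Groth.Agent.Inter.Cartier
import Groth.Agent.Inter.CartierH0
import Groth.Agent.Inter.Length
import Groth.Agent.RefRank.EffCartierLocal
import Groth.Agent.RefRank.EffCartierDecomp
import Groth.Agent.VarietyBC.InterComp
import Groth.Agent.Variety2.DimScheme
import Groth.Agent.Divisors.AssocMore
import Groth.Agent.Divisors.EffCartierDim
import Groth.Agent.Calg4.RegularAscent
import Groth.Agent.S2821

/-!
# Curves on a regular proper surface

An integral curve on a regular surface is an effective Cartier divisor, its degree against an invertible module is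
minus the pairing with its ideal, and two effective divisors without a common component pair nonnegatively.
-/

universe u

open CategoryTheory CategoryTheory.Limits AlgebraicGeometry TopologicalSpace

namespace Groth.SurfNum

open Groth.Inter

variable {X : Scheme.{u}}

/-- An integral closed subscheme of one-dimensional support. -/
def IsCurve (I : X.IdealSheafData) : Prop :=
  IsIntegral I.subscheme ∧ topologicalKrullDim (I.support : Set X) = 1

theorem eq_ptIdeal (I : X.IdealSheafData) [IsIntegral I.subscheme] :
    ∃ ξ : X, I = IntMult.ptIdeal ξ ∧ (I.support : Set X) = closure {ξ} := by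
  have hs : (I.support : Set X) = closure {I.subschemeι (genericPoint I.subscheme)} := by
    rw [← I.range_subschemeι, ← Set.image_univ, ← (genericPoint_spec I.subscheme).def,
      ← I.subschemeι.isClosedEmbedding.closure_image_eq, Set.image_singleton]
  refine ⟨_, le_antisymm ?_ ?_, hs⟩
  · refine Scheme.IdealSheafData.le_support_iff_le_vanishingIdeal.1 ?_
    exact fun x hx => hs.ge hx
  · exact RefRank.EffCartierLocal.le_of_isReduced_subscheme (by
      rw [IntMult.ptIdeal, Scheme.IdealSheafData.coe_support_vanishingIdeal]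
      exact hs.le)

theorem IsCurve.exists_pt {I : X.IdealSheafData} (h : IsCurve I) :
    ∃ ξ : X, I = IntMult.ptIdeal ξ ∧ (I.support : Set X) = closure {ξ} ∧
      topologicalKrullDim (closure ({ξ} : Set X)) = ((1 : ℕ) : WithBot ℕ∞) := by
  haveI := h.1
  obtain ⟨ξ, h1, h2⟩ := eq_ptIdeal I
  exact ⟨ξ, h1, h2, by rw [← h2]; exact h.2⟩

theorem support_ptIdeal (ξ : X) : ((IntMult.ptIdeal ξ).support : Set X) = closure {ξ} := by
  rw [IntMult.ptIdeal, Scheme.IdealSheafData.coe_support_vanishingIdeal]
  rfl

/-- A curve contained in a curve is that curve. -/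
theorem IsCurve.eq_of_subset {I J : X.IdealSheafData} (hI : IsCurve I) (hJ : IsCurve J)
    (h : (I.support : Set X) ⊆ J.support) : I = J := by
  obtain ⟨ξ, rfl, hs, hd⟩ := hI.exists_pt
  obtain ⟨η, rfl, ht, he⟩ := hJ.exists_pt
  rw [eq_of_dim_closure (ht.le (h (hs.ge (subset_closure rfl)))) he.le hd.ge]

theorem eq_one_of_add {a b : ℕ∞} (h : a + b = 2) (ha : a = 1) : b = 1 := by
  subst ha
  cases b with
  | top => simp at h
  | coe m =>
    have h' : ((1 + m : ℕ) : ℕ∞) = (2 : ℕ) := by exact_mod_cast h
    have : 1 + m = 2 := by exact_mod_cast h'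
    have : m = 1 := by omega
    simp [this]

section Finite

/-- Finitely many points of a closed set have closures of the maximal dimension. -/
theorem finite_dim_closure_eq [NoetherianSpace X] {Z : Set X} (hZ : IsClosed Z) {n : ℕ}
    (hd : topologicalKrullDim Z ≤ (n : ℕ)) :
    {y : X | y ∈ Z ∧ topologicalKrullDim (closure ({y} : Set X)) = (n : ℕ)}.Finite := by
  obtain ⟨S, hSf, hSc, hSi, hS⟩ := NoetherianSpace.exists_finite_set_isClosed_irreducible hZ
  choose g hg using fun t : S => QuasiSober.sober (hSi t.1 t.2) (hSc t.1 t.2)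
  have := hSf.to_subtype
  refine (Set.finite_range g).subset fun y hy => ?_
  obtain ⟨t, ht, hyt⟩ := (hS ▸ hy.1 : y ∈ ⋃₀ S)
  refine ⟨⟨t, ht⟩, (eq_of_dim_closure (n := n) ?_ ?_ hy.2.ge).symm⟩
  · rw [(hg ⟨t, ht⟩).def]; exact hyt
  · rw [(hg ⟨t, ht⟩).def]
    exact (LocCohTransform.topologicalKrullDim_mono (hS ▸ Set.subset_sUnion_of_mem ht : t ⊆ Z)).trans hd

/-- A closed set of dimension at most zero is finite. -/
theorem finite_of_dim_le_zero [NoetherianSpace X] {Z : Set X} (hZ : IsClosed Z)
    (hd : topologicalKrullDim Z ≤ (0 : ℕ)) : Z.Finite := by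
  refine (finite_dim_closure_eq hZ hd).subset fun y hy => ⟨hy, le_antisymm
    ((LocCohTransform.topologicalKrullDim_mono (hZ.closure_subset_iff.2 (Set.singleton_subset_iff.2 hy))).trans hd) ?_⟩
  rw [Variety2.Dim.dim_closure_singleton]
  exact WithBot.coe_le_coe.2 bot_le

end Finite

variable (k : Type u) [Field k] [X.Over (Spec (CommRingCat.of k))]
  [IsProper (X ↘ Spec (CommRingCat.of k))] [IsIntegral X]

include k in
/-- The smallness of the support of an effective Cartier divisor on a surface. -/
theorem dim_support_le_one (hdim : topologicalKrullDim X = 2) {D : X.IdealSheafData}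
    (hD : BlowUp.IsEffCartierIdeal D) : topologicalKrullDim (D.support : Set X) ≤ ((1 : ℕ) : WithBot ℕ∞) := by
  have hN : IsNoetherian X := Groth.Inter.isNoetherian k
  refine lt_natCast_succ_iff.1 (lt_of_le_of_ne ((topologicalKrullDim_subspace_le X _).trans hdim.le) fun h => ?_)
  obtain ⟨ξ, hξ, hξd⟩ := Groth.Inter.exists_dim_closure_eq D.support.isClosed h
  exact Groth.VarietyBC.InterComp.notMem_support_of_weakAss hD hξ
    (Groth.Divisors.weakAss_structure_of_maximal fun y hy =>
      (eq_of_dim_closure hy.mem_closure ((topologicalKrullDim_subspace_le X _).trans hdim.le) hξd.ge).symm)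

include k in
/-- A nonempty effective Cartier divisor on a surface contains a curve. -/
theorem exists_mem_dim_one (hdim : topologicalKrullDim X = 2) {D : X.IdealSheafData}
    (hD : BlowUp.IsEffCartierIdeal D) (hne : (D.support : Set X).Nonempty) :
    ∃ y ∈ D.support, topologicalKrullDim (closure ({y} : Set X)) = ((1 : ℕ) : WithBot ℕ∞) := by
  have hN : IsNoetherian X := Groth.Inter.isNoetherian k
  obtain ⟨z, hz⟩ := hne
  obtain ⟨y, hy, -, hmax⟩ := Groth.DivisorLength.exists_maximal_generization D.support.isClosed hz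
  refine ⟨y, hy, ?_⟩
  have h1 := Groth.Divisors.dim_stalk_eq_one_of_maximal_support hD hy hmax
  have h2 := Variety2.Dim.ringKrullDim_stalk_add_height (X ↘ Spec (CommRingCat.of k)) y
  rw [h1, hdim] at h2
  rw [Variety2.Dim.dim_closure_singleton]
  exact congrArg WithBot.some (eq_one_of_add (a := 1) (WithBot.coe_inj.1 h2) rfl)

include k in
theorem notMem_support_idealMod {D : X.IdealSheafData} (hD : BlowUp.IsEffCartierIdeal D) :
    ∀ x ∈ D.support, ¬ Curv2.IsWeakAssPoint (Coh.structureModule X) x :=
  fun _ hx h => Groth.VarietyBC.InterComp.notMem_support_of_weakAss hD hx h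

/-- A pairing with the ideal of a divisor is computed on the divisor. -/
theorem pair_idealMod {D : X.IdealSheafData} (hD : BlowUp.IsEffCartierIdeal D) {L : X.Modules}
    (hL : PicF.IsInvertible L) :
    pair k (ClSub.idealMod D) L = delta k [L] (ClSub.quotMod D) := by
  have hN : IsNoetherian X := Groth.Inter.isNoetherian k
  unfold Groth.Inter.pair
  rw [delta_idealMod_cons k QCohMod.isCoh_unit hD (notMem_support_idealMod k hD) (by simpa using hL)]
  exact delta_congr k _ (tensor_one _)

/-- The degree of `L` on a divisor `D` is minus the pairing with the ideal of `D`. -/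
theorem deg_eq {D : X.IdealSheafData} (hD : BlowUp.IsEffCartierIdeal D) {L : X.Modules}
    (hL : PicF.IsInvertible L) :
    Curv2.euler k X (CohB1.tensorMod (ClSub.quotMod D) L) - Curv2.euler k X (ClSub.quotMod D) =
      - pair k (ClSub.idealMod D) L := by
  rw [pair_idealMod k hD hL, delta_cons, delta_nil, delta_nil,
    EulerDeg.euler_congr k (Groth.Inter.tensor_comm L (ClSub.quotMod D)).some]
  ring

variable (hdim : topologicalKrullDim X = 2) (hreg : ∀ x : X, IsRegularLocalRing (X.presheaf.stalk x))

include k hdim hreg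

/-- A curve on a regular surface is a Cartier divisor. -/
theorem IsCurve.isEffCartier {I : X.IdealSheafData} (h : IsCurve I) : BlowUp.IsEffCartierIdeal I := by
  have hN : IsNoetherian X := Groth.Inter.isNoetherian k
  haveI := h.1
  obtain ⟨ξ, -, hs, hd⟩ := h.exists_pt
  refine RefRank.EffCartierLocal.isEffCartierIdeal_of_isIntegral I ?_ fun x _ => ?_
  · have hgen : I.subschemeι (genericPoint I.subscheme) = ξ :=
      CohTwo.apply_genericPoint_eq I.subschemeι (by rw [I.range_subschemeι, hs])
    rw [hgen]
    have h2 := Variety2.Dim.ringKrullDim_stalk_add_height (X ↘ Spec (CommRingCat.of k)) ξ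
    rw [← Variety2.Dim.dim_closure_singleton, hd, hdim] at h2
    generalize ringKrullDim (X.presheaf.stalk ξ) = a at h2 ⊢
    cases a with
    | bot => simp at h2
    | coe a =>
      exact congrArg WithBot.some (eq_one_of_add (b := a) (a := 1) (by rw [add_comm]; exact WithBot.coe_inj.1 h2) rfl)
  · haveI := hreg x
    exact Groth.Agent.S2821.result _

theorem IsCurve.isInvertible {I : X.IdealSheafData} (h : IsCurve I) :
    PicF.IsInvertible (ClSub.idealMod I) :=
  PicAux.isInvertible_idealMod (h.isEffCartier k hdim hreg)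

/-- A divisor meets a curve it does not contain nonnegatively. -/
theorem pair_nonneg_of_not_subset {D J : X.IdealSheafData} (hD : BlowUp.IsEffCartierIdeal D)
    (hJ : IsCurve J) (hns : ¬ (J.support : Set X) ⊆ D.support) :
    0 ≤ pair k (ClSub.idealMod D) (ClSub.idealMod J) := by
  have hN : IsNoetherian X := Groth.Inter.isNoetherian k
  obtain ⟨ξ, -, hs, hd⟩ := hJ.exists_pt
  have hp : ∀ Z ∈ irreducibleComponents (X : Type u), topologicalKrullDim Z = 2 := fun Z hZ => by
    obtain rfl : Z = Set.univ := by
      simpa [irreducibleComponents_eq_singleton] using hZ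
    rw [← hdim]
    exact IsHomeomorph.topologicalKrullDim_eq _ (Homeomorph.Set.univ X).isHomeomorph
  have hCM : ∀ x : X, LocCoh.IsCohenMacaulayLocalRing (X.presheaf.stalk x) := fun x => by
    have := hreg x
    exact Groth.Calg4.isCohenMacaulayLocalRing_of_isRegularLocalRing _
  rw [← intNum_eq_pair k hdim.le, Groth.Inter.intNum_pair_eq_finrank k hp hdim.le
    hCM D J (fun x => hD x) (fun x => hJ.isEffCartier k hdim hreg x) ?_]
  · exact Int.natCast_nonneg _
  · refine finite_of_dim_le_zero (D ⊔ J).support.isClosed (lt_natCast_succ_iff.1 ?_)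
    have hsub : ((D ⊔ J).support : Set X) ⊆ closure {ξ} := by
      rw [← hs]; exact Scheme.IdealSheafData.support_antitone le_sup_right
    refine lt_of_lt_of_eq (LocCohTransform.topologicalKrullDim_lt_of_ssubset hsub (fun h' => hns ?_)
      (D ⊔ J).support.isClosed isClosed_closure isIrreducible_singleton.closure ?_) hd
    · rw [hs]
      exact h'.trans (Scheme.IdealSheafData.support_antitone le_sup_left)
    · rw [hd]; exact WithBot.coe_lt_coe.2 (ENat.natCast_lt_top _)

/-- Distinct curves meet nonnegatively. -/
theorem pair_nonneg_of_ne {I J : X.IdealSheafData} (hI : IsCurve I) (hJ : IsCurve J) (hne : I ≠ J) :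
    0 ≤ pair k (ClSub.idealMod I) (ClSub.idealMod J) :=
  pair_nonneg_of_not_subset k hdim hreg (hI.isEffCartier k hdim hreg) hJ fun h =>
    hne (hJ.eq_of_subset hI h).symm

omit hdim hreg in
/-- An ample module is positive on every curve. -/
theorem pair_idealMod_neg {I : X.IdealSheafData} (hI : BlowUp.IsEffCartierIdeal I)
    (hd : topologicalKrullDim (I.support : Set X) = ((1 : ℕ) : WithBot ℕ∞)) {A : X.Modules} (hA : CohB1.IsAmple A) :
    pair k (ClSub.idealMod I) A < 0 := by
  have h := pos_of_isAmple k hA I hd
  rw [deg_eq k hI hA.1] at h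
  omega

theorem IsCurve.pair_neg {I : X.IdealSheafData} (hI : IsCurve I) {A : X.Modules} (hA : CohB1.IsAmple A) :
    pair k (ClSub.idealMod I) A < 0 :=
  pair_idealMod_neg k (hI.isEffCartier k hdim hreg) hI.2 hA

omit hreg in
/-- A nontrivial effective divisor has positive degree. -/
theorem pair_neg_of_ne_top {D : X.IdealSheafData} (hD : BlowUp.IsEffCartierIdeal D) (hne : D ≠ ⊤)
    {A : X.Modules} (hA : CohB1.IsAmple A) : pair k (ClSub.idealMod D) A < 0 := by
  obtain ⟨y, hy, hyd⟩ := exists_mem_dim_one k hdim hD (Set.nonempty_iff_ne_empty.2 fun h =>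
    hne ((Scheme.IdealSheafData.support_eq_bot_iff D).1 (SetLike.coe_injective h)))
  refine pair_idealMod_neg k hD (le_antisymm (dim_support_le_one k hdim hD) ?_) hA
  rw [← hyd]
  exact LocCohTransform.topologicalKrullDim_mono
    (D.support.isClosed.closure_subset_iff.2 (Set.singleton_subset_iff.2 hy))

omit hreg in
/-- The class of an effective divisor is a nonnegative combination of classes of curves. -/
theorem exists_pair_eq_sum {D : X.IdealSheafData} (hD : BlowUp.IsEffCartierIdeal D) :
    ∃ (s : Finset X) (m : X → ℕ), (∀ y ∈ s, IsCurve (IntMult.ptIdeal y) ∧ y ∈ D.support) ∧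
      ∀ L : X.Modules, PicF.IsInvertible L → pair k (ClSub.idealMod D) L =
        ∑ y ∈ s, (m y : ℤ) * delta k [L] (ClSub.quotMod (IntMult.ptIdeal y)) := by
  have hN : IsNoetherian X := Groth.Inter.isNoetherian k
  obtain ⟨hc, hsup⟩ := support_quotMod k D
  have hdS : topologicalKrullDim (CohB1.support (ClSub.quotMod D)) ≤ ((1 : ℕ) : WithBot ℕ∞) := by
    rw [hsup]; exact dim_support_le_one k hdim hD
  have hfin := finite_dim_closure_eq (CohTwo.isClosed_support _ hc) hdS
  refine ⟨hfin.toFinset, fun y => (Module.length (X.presheaf.stalk y) ((ClSub.quotMod D).presheaf.stalk y)).toNat,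
    fun y hy => ?_, fun L hL => ?_⟩
  · rw [Set.Finite.mem_toFinset] at hy
    exact ⟨⟨CohTwo.isIntegral_closure_subscheme rfl, (dim_support_ptIdeal y).trans (hy.2.trans (by simp))⟩,
      hsup.le hy.1⟩
  · rw [pair_idealMod k hD hL, delta_eq_sum_length k (by simpa using hL) hc (by simpa using hdS) hfin.toFinset
      (fun ξ => by simp [Set.Finite.mem_toFinset])]
    exact Finset.sum_congr rfl fun y _ => rfl

end Groth.SurfNum
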