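import Groth.Agent.SurfNum.Basic
import Groth.Agent.Agf.RegularPoints
import Groth.Agent.Duality.PnStalk

/-!
# Smooth surfaces, and forms with nonnegative off-diagonal entries
-/

universe u

open CategoryTheory CategoryTheory.Limits AlgebraicGeometry TopologicalSpace

namespace Groth.SurfNum

/-- A smooth scheme over a field is regular. -/
theorem isRegularLocalRing_stalk (k : Type u) [Field k] {X : Scheme.{u}}
    [X.Over (Spec (CommRingCat.of k))] [Smooth (X ↘ Spec (CommRingCat.of k))] (x : X) :
    IsRegularLocalRing (X.presheaf.stalk x) := by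
  let f := X ↘ Spec (CommRingCat.of k)
  let _ : Field ((Spec (CommRingCat.of k)).presheaf.stalk (f x)) :=
    (Variety2.isField_stalk (Subsingleton.elim (α := PrimeSpectrum k) _ _)).toField
  have : IsRegularLocalRing ((Spec (CommRingCat.of k)).presheaf.stalk (f x)) := inferInstance
  exact Agf.RegularPoints.isRegularLocalRing_stalk_of_smooth (X ↘ Spec (CommRingCat.of k)) x

section Algebra

variable {α : Type*} [CommRing α] [LinearOrder α] [IsStrictOrderedRing α] {ι : Type*} [Fintype ι]

/-- For a negative definite form with nonnegative off-diagonal entries, a vector with nonpositive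
products is nonnegative. -/
theorem nonneg_of_sum_nonpos (G : ι → ι → α) (hoff : ∀ i j, i ≠ j → 0 ≤ G i j)
    (hneg : ∀ a : ι → α, a ≠ 0 → ∑ i, ∑ j, a i * a j * G i j < 0) (s : ι → α)
    (h : ∀ j, ∑ i, s i * G i j ≤ 0) : ∀ i, 0 ≤ s i := by
  let n : ι → α := fun i => max (- s i) 0
  let p : ι → α := fun i => max (s i) 0
  have hps : ∀ i, p i - n i = s i := fun i => by
    rcases le_total 0 (s i) with h | h <;> simp [p, n, h]
  have hz : ∀ i, p i * n i = 0 := fun i => by
    rcases le_total 0 (s i) with h | h <;> simp [p, n, h]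
  have key : 0 ≤ ∑ i, ∑ j, n i * n j * G i j := by
    have h1 : 0 ≤ ∑ i, ∑ j, p i * n j * G i j := Finset.sum_nonneg fun i _ => Finset.sum_nonneg fun j _ => by
      rcases eq_or_ne i j with rfl | hne
      · simp [hz]
      · exact mul_nonneg (mul_nonneg (le_max_right _ _) (le_max_right _ _)) (hoff i j hne)
    have h2 : ∑ i, ∑ j, s i * n j * G i j ≤ 0 := by
      rw [Finset.sum_comm]
      refine Finset.sum_nonpos fun j _ => ?_
      have e : ∑ i, s i * n j * G i j = n j * ∑ i, s i * G i j := by
        rw [Finset.mul_sum]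
        exact Finset.sum_congr rfl fun i _ => by ring
      rw [e]
      exact mul_nonpos_of_nonneg_of_nonpos (le_max_right _ _) (h j)
    have h3 : ∑ i, ∑ j, n i * n j * G i j =
        ∑ i, ∑ j, p i * n j * G i j - ∑ i, ∑ j, s i * n j * G i j := by
      simp only [← Finset.sum_sub_distrib]
      exact Finset.sum_congr rfl fun i _ => Finset.sum_congr rfl fun j _ => by
        rw [← hps i]; ring
    linarith
  have hn : n = 0 := by
    by_contra hne
    exact absurd key (not_le.2 (hneg n hne))
  intro i
  have := congrFun hn i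
  simp [n] at this
  exact this

end Algebra

variable {X : Scheme.{u}} (k : Type u) [Field k] [X.Over (Spec (CommRingCat.of k))]
  [IsProper (X ↘ Spec (CommRingCat.of k))]

open Groth.Inter in
/-- Integral combinations of finitely many classes. -/
theorem exists_sum (hdim : topologicalKrullDim X ≤ (2 : ℕ)) {ι : Type*} (s : Finset ι) (A : ι → X.Modules)
    (hA : ∀ i ∈ s, PicF.IsInvertible (A i)) (a : ι → ℤ) :
    ∃ N : X.Modules, PicF.IsInvertible N ∧ ∀ C : X.Modules, PicF.IsInvertible C →
      pair k N C = ∑ i ∈ s, a i * pair k (A i) C := by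
  classical
  induction s using Finset.induction_on with
  | empty =>
    exact ⟨_, EulerDeg.isInvertible_structureModule X, fun C _ => by rw [pair_one k, Finset.sum_empty]⟩
  | @insert i s hi ih =>
    obtain ⟨N, hN, hN'⟩ := ih fun j hj => hA j (Finset.mem_insert_of_mem hj)
    obtain ⟨M, hM, hM'⟩ := exists_comb k hdim (hA i (Finset.mem_insert_self _ _)) hN (a i) 1
    exact ⟨M, hM, fun C hC => by rw [hM' C hC, hN' C hC, Finset.sum_insert hi, one_mul]⟩

end Groth.SurfNum
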