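import Groth.Agent.SurfNum.Basic
import Groth.Agent.PicAux.EffCartierSection
import Groth.Agent.PropsBasic.AmpleSec

/-!
# Euler characteristics of numerically trivial modules
-/

universe u

open CategoryTheory CategoryTheory.Limits AlgebraicGeometry

namespace Groth.SurfNum

open Groth.Inter Groth.PicAux

variable {X : Scheme.{u}} (k : Type u) [Field k] [X.Over (Spec (CommRingCat.of k))]
  [IsProper (X ↘ Spec (CommRingCat.of k))] [IsIntegral X] (hdim : topologicalKrullDim X = 2)
  {A : X.Modules} (hA : CohB1.IsAmple A)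

include k hdim hA

/-- The Euler characteristics of the powers of a numerically trivial module are bounded above. -/
theorem exists_bound {N : X.Modules} (hN : PicF.IsInvertible N) (hNN : pair k N N = 0)
    (hNA : pair k N A = 0) : ∃ B : ℤ, ∀ n : ℕ, - (n : ℤ) * delta k [N] (Coh.structureModule X) ≤ B := by
  obtain ⟨A', -, hAA'⟩ := exists_isInverseOf hA.1
  have hA' := isInvertible_of_isInverseOf hA.1 hAA'
  set K := (Module.finrank k (Coh.HH X A' 2) : ℤ)
  set K₀ := (Module.finrank k (Coh.HH X (Coh.structureModule X) 2) : ℤ)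
  set q := (Module.finrank k (Coh.HH X (Coh.structureModule X) 0) : ℤ)
  set c := Curv2.euler k X (Coh.structureModule X)
  set b := delta k [A] (Coh.structureModule X)
  have hQ := pair_self_pos k hdim hA
  refine ⟨K₀ + q + K + |c| + (pair k A A + 2 * b) ^ 2, fun n => ?_⟩
  have hsq : 0 ≤ (pair k A A + 2 * b) ^ 2 := sq_nonneg _
  classical
  have hex := exists_nontrivial_twist k hdim hA hN n
  have hspec := Nat.find_spec hex
  rcases Nat.eq_zero_or_eq_succ_pred (Nat.find hex) with h0 | h0
  · -- the power itself has a section, which has no zero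
    rw [h0] at hspec
    have hnt : Nontrivial (Coh.HH X (CohB1.tensorPow N n) 0) :=
      (EulerDeg.hEquiv k ((tensor_comm _ _).some ≪≫ (tensor_one _).some) 0).toEquiv.nontrivial_congr.1 hspec
    obtain ⟨φ, hφ⟩ := (nontrivial_h0_iff k _).1 hnt
    have hle := euler_le k hdim (EulerDeg.isInvertible_structureModule X) (isInvertible_tensorPow hN n) hφ
    have he := euler_pow_pow k hdim.le hN hA.1 n 0
    rw [show CohB1.tensorPow A 0 = Coh.structureModule X from rfl] at he
    rw [EulerDeg.euler_congr k (N := CohB1.tensorPow N n) ((tensor_comm _ _).some ≪≫ (tensor_one _).some),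
      hNN] at he
    simp only [Nat.choose_zero_succ, Nat.cast_zero, zero_mul, mul_zero, add_zero, sub_zero] at he
    have hh0 : Module.finrank k (Coh.HH X (CohB1.tensorPow N n) 0) ≤
        Module.finrank k (Coh.HH X (Coh.structureModule X) 0) := by
      have hP := isInvertible_tensorPow hN n
      have hreg := regularSection_of_ne_zero hP hφ
      have hDL := isInverseOf_zeroScheme hP hreg
      have htop : PicF2.zeroScheme _ φ = ⊤ := by
        by_contra hne
        have := pair_neg_of_ne_top k hdim (isEffCartierIdeal_zeroScheme hP hreg) hne hA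
        rw [pair_inverse k hdim.le hP hDL hA.1, pair_pow k hdim.le hN hA.1, hNA] at this
        simp at this
      have hle : (⊤ : X.Opens) ≤ PropsBasic.Ample.gloc (gsec φ) := fun x _ => by
        rw [← PropsBasic.Ample.genLocus_eq_gloc, mem_genLocus_iff_not_mem_support hP φ x, htop]
        rw [Scheme.IdealSheafData.support_top]
        exact fun h => h
      obtain ⟨e⟩ : Nonempty (CohB1.tensorPow N n ≅ Coh.structureModule X) :=
        nonempty_iso_structure_iff.2 ⟨gsec φ, by
          have := PropsBasic.Ample.gen_gloc (gsec φ) hle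
          rwa [res_self] at this⟩
      exact (EulerDeg.finrank_congr (k := k) e 0).le
    have := neg_abs_le c
    have : 0 ≤ K := Int.natCast_nonneg _
    rw [neg_mul]
    omega
  · set i := (Nat.find hex).pred
    rw [h0] at hspec
    have hmin := Nat.find_min hex (show i < Nat.find hex by omega)
    obtain ⟨φ, hφ⟩ := (nontrivial_h0_iff k _).1 hspec
    let L := CohB1.tensorMod (CohB1.tensorPow N n) (CohB1.tensorPow A i)
    have hL : PicF.IsInvertible L :=
      isInvertible_tensorMod (isInvertible_tensorPow hN n) (isInvertible_tensorPow hA.1 i)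
    let e : CohB1.tensorMod (CohB1.tensorPow N n) (CohB1.tensorPow A (i + 1)) ≅ CohB1.tensorMod L A :=
      (tensor_assoc _ _ A).some.symm
    obtain ⟨ψ, hψ⟩ := exists_hom_of_twist hA' hAA' hL (EulerDeg.isInvertible_structureModule X)
      (φ := φ ≫ e.hom) (fun h => hφ (by rw [← cancel_mono e.hom, h, zero_comp]))
    have hle := euler_le k hdim (isInvertible_tensorMod (EulerDeg.isInvertible_structureModule X) hA')
      hL hψ
    haveI : Subsingleton (Coh.HH X L 0) := not_nontrivial_iff_subsingleton.1 hmin
    rw [Module.finrank_zero_of_subsingleton (R := k) (M := Coh.HH X L 0),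
      EulerDeg.finrank_congr (k := k) (tensor_one A').some 2, euler_pow_pow k hdim.le hN hA.1 n i, hNN,
      hNA] at hle
    push_cast at hle
    have hch : (2 : ℤ) * (i.choose 2 : ℤ) = (i : ℤ) * (i - 1) := by
      rcases i with _ | m
      · simp
      have h' : 2 * (m + 1).choose 2 = (m + 1) * m := by
        rw [Nat.choose_two_right, Nat.mul_div_cancel' (Nat.even_mul_pred_self (m + 1)).two_dvd]
        simp
      zify at h'
      push_cast
      linarith
    have h4 : -(pair k A A + 2 * b) ^ 2 ≤ (i : ℤ) * (i - 1) * pair k A A - 2 * i * b := by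
      nlinarith [sq_nonneg (2 * (i : ℤ) * pair k A A - pair k A A - 2 * b),
        sq_nonneg (pair k A A + 2 * b)]
    have := neg_abs_le c
    have : 0 ≤ K₀ := Int.natCast_nonneg _
    have : 0 ≤ q := Int.natCast_nonneg _
    nlinarith

/-- A numerically trivial module has the Euler characteristic of the structure sheaf. -/
theorem delta_eq_zero_of_numTrivial {N : X.Modules} (hN : PicF.IsInvertible N)
    (h : ∀ M : X.Modules, PicF.IsInvertible M → pair k N M = 0) :
    delta k [N] (Coh.structureModule X) = 0 := by
  have key : ∀ M : X.Modules, PicF.IsInvertible M → (∀ L : X.Modules, PicF.IsInvertible L → pair k M L = 0) →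
      0 ≤ delta k [M] (Coh.structureModule X) := fun M hM hM0 => by
    obtain ⟨B, hB⟩ := exists_bound k hdim hA hM (hM0 M hM) (hM0 A hA.1)
    by_contra hlt
    have := hB (B.natAbs + 1)
    have h1 : (B.natAbs : ℤ) = |B| := Int.natCast_natAbs B
    push_cast at this
    nlinarith [le_abs_self B, abs_nonneg B]
  obtain ⟨N', -, hNN'⟩ := exists_isInverseOf hN
  have hN' := isInvertible_of_isInverseOf hN hNN'
  have h1 := key N hN h
  have h2 := key N' hN' fun L hL => by rw [pair_inverse k hdim.le hN hNN' hL, h L hL, neg_zero]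
  have h0 := h N' hN'
  have e : Nonempty (CohB1.tensorMod N' (CohB1.tensorMod N (Coh.structureModule X)) ≅ Coh.structureModule X) :=
    ⟨(tensor_left_comm N' N _).some ≪≫ (tensor_assoc N N' _).some.symm ≪≫
      (tensor_congr hNN' ⟨Iso.refl _⟩).some ≪≫ (tensor_one _).some⟩
  unfold Groth.Inter.pair at h0
  simp only [delta_cons, delta_nil] at h0 h1 h2 ⊢
  rw [EulerDeg.euler_congr k e.some] at h0
  linarith

/-- Numerically equivalent modules have the same Euler characteristic. -/
theorem euler_eq_of_numEquiv {L₁ L₂ : X.Modules} (h₁ : PicF.IsInvertible L₁) (h₂ : PicF.IsInvertible L₂)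
    (h : ∀ M : X.Modules, PicF.IsInvertible M → pair k L₁ M = pair k L₂ M) :
    Curv2.euler k X L₁ = Curv2.euler k X L₂ := by
  obtain ⟨L', -, hL'⟩ := exists_isInverseOf h₂
  have hi' := isInvertible_of_isInverseOf h₂ hL'
  set N := CohB1.tensorMod L₁ L'
  have hN : PicF.IsInvertible N := isInvertible_tensorMod h₁ hi'
  have hN0 : ∀ M : X.Modules, PicF.IsInvertible M → pair k N M = 0 := fun M hM => by
    rw [pair_tensor k hdim.le h₁ hi' hM, pair_inverse k hdim.le h₂ hL' hM, h M hM, add_neg_cancel]
  have hd := delta_eq_zero_of_numTrivial k hdim hA hN hN0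
  have h0 := hN0 L₂ h₂
  have e : Nonempty (CohB1.tensorMod L₂ (CohB1.tensorMod N (Coh.structureModule X)) ≅ L₁) :=
    ⟨(tensor_congr ⟨Iso.refl L₂⟩ ⟨(tensor_comm N _).some ≪≫ (tensor_one N).some⟩).some ≪≫
      (tensor_left_comm L₂ L₁ L').some ≪≫ (tensor_congr ⟨Iso.refl L₁⟩ hL').some ≪≫
      (tensor_comm L₁ _).some ≪≫ (tensor_one L₁).some⟩
  unfold Groth.Inter.pair at h0
  simp only [delta_cons, delta_nil] at h0 hd
  rw [EulerDeg.euler_congr k e.some, EulerDeg.euler_congr k ((tensor_comm L₂ _).some ≪≫ (tensor_one L₂).some)] at h0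
  linarith

end Groth.SurfNum
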