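import Groth.Agent.SurfNum.Cones

/-!
# Negative definite configurations of curves and walls of the ample cone
-/

universe u

open CategoryTheory CategoryTheory.Limits AlgebraicGeometry TopologicalSpace

namespace Groth.SurfNum

open Groth.Inter

section Regular

variable (k : Type u) [Field k] {X : Scheme.{u}} [X.Over (Spec (CommRingCat.of k))]
  [IsProper (X ↘ Spec (CommRingCat.of k))] [IsIntegral X]
  (hdim : topologicalKrullDim X = 2) (hreg : ∀ x : X, IsRegularLocalRing (X.presheaf.stalk x))
  [PicGrp.Law X] {B : NumR.N1R k X →ₗ[ℝ] NumR.N1R k X →ₗ[ℝ] ℝ} (hB : NumR.IsIntForm₂ k X B)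
  [Module.Finite ℝ (NumR.N1R k X)] {H : X.Modules} (hH : CohB1.IsAmple H)
  {r : ℕ} {C : Fin r → X.IdealSheafData} (hC : Function.Injective C) (hc : ∀ i, IsCurve (C i))

include hdim hreg hB hc in
theorem form_sum_sum (a b : Fin r → ℝ) :
    B (∑ i, a i • curveClass k (C i)) (∑ j, b j • curveClass k (C j)) =
      ∑ i, ∑ j, a i * b j * (pair k (ClSub.idealMod (C i)) (ClSub.idealMod (C j)) : ℝ) := by
  simp only [map_sum, LinearMap.sum_apply, map_smul, LinearMap.smul_apply, smul_eq_mul, Finset.mul_sum]
  rw [Finset.sum_comm]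
  refine Finset.sum_congr rfl fun i _ => Finset.sum_congr rfl fun j _ => ?_
  rw [curveClass_eq k ((hc i).isInvertible k hdim hreg), curveClass_eq k ((hc j).isInvertible k hdim hreg),
    form_curveCl_curveCl k hdim hB]
  ring

include hdim hreg hB hc in
theorem negDef_forms (hneg : ∀ a : Fin r → ℤ, a ≠ 0 →
      ∑ i, ∑ j, a i * a j * pair k (ClSub.idealMod (C i)) (ClSub.idealMod (C j)) < 0)
    (c : Fin r → ℝ) (hc0 : c ≠ 0) :
    B (∑ i, c i • curveClass k (C i)) (∑ i, c i • curveClass k (C i)) < 0 := by
  rw [form_sum_sum k hdim hreg hB hc]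
  exact negDef_real _ (fun i j => pair_comm k _ _) hneg c hc0

include hdim hreg hB hc hH in
/-- The classes of a negative definite configuration and an ample class are independent. -/
theorem succ_le_finrank (hneg : ∀ a : Fin r → ℤ, a ≠ 0 →
      ∑ i, ∑ j, a i * a j * pair k (ClSub.idealMod (C i)) (ClSub.idealMod (C j)) < 0) :
    r + 1 ≤ Module.finrank ℝ (NumR.N1R k X) := by
  have L := isLorentz k hdim hreg hB hH
  let v : Fin (r + 1) → NumR.N1R k X := Fin.cons (NumR.clR k X H hH.1) fun i => curveClass k (C i)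
  suffices hli : LinearIndependent ℝ v by
    simpa using hli.fintype_card_le_finrank
  rw [linearIndependent_finCons]
  constructor
  · rw [Fintype.linearIndependent_iff]
    intro g hg i
    by_contra hne
    have := negDef_forms k hdim hreg hB hc hneg g fun h0 => hne (congrFun h0 i)
    rw [hg] at this
    simp at this
  · intro hmem
    obtain ⟨g, hg⟩ := (Submodule.mem_span_range_iff_exists_fun ℝ).1 hmem
    have h1 := L.pos
    rw [← hg] at h1
    rcases eq_or_ne g 0 with rfl | hne
    · simp at h1
    · exact absurd h1 (not_lt.2 (negDef_forms k hdim hreg hB hc hneg g hne).le)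

include hdim hreg hB hc hC hH in
/-- Curves orthogonal to a class of positive square form a negative definite configuration. -/
theorem negDef_of_orth {x : NumR.N1R k X} (hx : 0 < B x x) (horth : ∀ i, B x (curveClass k (C i)) = 0)
    (a : Fin r → ℤ) (ha : a ≠ 0) :
    ∑ i, ∑ j, a i * a j * pair k (ClSub.idealMod (C i)) (ClSub.idealMod (C j)) < 0 := by
  have L := isLorentz k hdim hreg hB hH
  have hox : ∀ g : Fin r → ℝ, B x (∑ i, g i • curveClass k (C i)) = 0 := fun g => by
    simp only [map_sum, map_smul, smul_eq_mul, horth, mul_zero, Finset.sum_const_zero]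
  suffices h : B (∑ i, (a i : ℝ) • curveClass k (C i)) (∑ i, (a i : ℝ) • curveClass k (C i)) < 0 by
    rw [form_sum_sum k hdim hreg hB hc] at h
    exact_mod_cast h
  refine L.neg_of_orth hx (hox _) fun h0 => ha ?_
  let p : Fin r → ℝ := fun i => max (a i : ℝ) 0
  let n : Fin r → ℝ := fun i => max (- (a i : ℝ)) 0
  have hpn : ∀ i, p i - n i = (a i : ℝ) := fun i => by
    rcases le_total (0 : ℝ) (a i : ℝ) with h | h <;> simp [p, n, h]
  have hz : ∀ i, p i * n i = 0 := fun i => by
    rcases le_total (0 : ℝ) (a i : ℝ) with h | h <;> simp [p, n, h]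
  have hPN : ∑ i, p i • curveClass k (C i) = ∑ i, n i • curveClass k (C i) := by
    rw [← sub_eq_zero, ← Finset.sum_sub_distrib, ← h0]
    exact Finset.sum_congr rfl fun i _ => by rw [← sub_smul, hpn]
  have hnn : 0 ≤ B (∑ i, p i • curveClass k (C i)) (∑ i, n i • curveClass k (C i)) := by
    rw [form_sum_sum k hdim hreg hB hc]
    refine Finset.sum_nonneg fun i _ => Finset.sum_nonneg fun j _ => ?_
    rcases eq_or_ne i j with rfl | hne
    · simp [hz]
    · exact mul_nonneg (mul_nonneg (le_max_right _ _) (le_max_right _ _))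
        (by exact_mod_cast pair_nonneg_of_ne k hdim hreg (hc i) (hc j) fun h => hne (hC h))
  have key : ∀ g : Fin r → ℝ, (∀ i, 0 ≤ g i) →
      0 ≤ B (∑ i, g i • curveClass k (C i)) (∑ i, g i • curveClass k (C i)) → g = 0 := by
    intro g hg hgg
    have e : ∑ i, g i • curveClass k (C i) = 0 := by
      by_contra hne
      exact absurd hgg (not_le.2 (L.neg_of_orth hx (hox g) hne))
    by_contra hne
    obtain ⟨i₀, hi₀⟩ := Function.ne_iff.1 hne
    have hpos : ∀ i, 0 < B (NumR.clR k X H hH.1) (curveClass k (C i)) := fun i => by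
      rw [form_curveClass k hdim hreg hB hH.1 (hc i), neg_pos]
      exact_mod_cast (hc i).pair_neg k hdim hreg hH
    have h1 : 0 < ∑ i, g i * B (NumR.clR k X H hH.1) (curveClass k (C i)) :=
      Finset.sum_pos' (fun i _ => mul_nonneg (hg i) (hpos i).le)
        ⟨i₀, Finset.mem_univ _, mul_pos (lt_of_le_of_ne (hg i₀) (Ne.symm hi₀)) (hpos i₀)⟩
    have h2 := congrArg (B (NumR.clR k X H hH.1)) e
    simp only [map_sum, map_smul, smul_eq_mul, map_zero] at h2
    linarith
  have hp0 : p = 0 := key p (fun i => le_max_right _ _) (by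
    calc (0 : ℝ) ≤ B (∑ i, p i • curveClass k (C i)) (∑ i, n i • curveClass k (C i)) := hnn
      _ = _ := by rw [← hPN])
  have hn0 : n = 0 := key n (fun i => le_max_right _ _) (by
    calc (0 : ℝ) ≤ B (∑ i, p i • curveClass k (C i)) (∑ i, n i • curveClass k (C i)) := hnn
      _ = _ := by rw [hPN])
  funext i
  have := hpn i
  rw [hp0, hn0, Pi.zero_apply, sub_zero] at this
  exact_mod_cast this.symm

include hdim hreg hB hc hC hH in
/-- A nef class of positive square orthogonal to a negative definite configuration. -/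
theorem exists_orth (hneg : ∀ a : Fin r → ℤ, a ≠ 0 →
      ∑ i, ∑ j, a i * a j * pair k (ClSub.idealMod (C i)) (ClSub.idealMod (C j)) < 0) :
    ∃ x : NumR.N1R k X, 0 < B x x ∧ 0 < B x (NumR.clR k X H hH.1) ∧ Nef k B x ∧
      ∀ i, B x (curveClass k (C i)) = 0 := by
  classical
  have L := isLorentz k hdim hreg hB hH
  set h := NumR.clR k X H hH.1
  let G : Matrix (Fin r) (Fin r) ℝ := fun i j => (pair k (ClSub.idealMod (C i)) (ClSub.idealMod (C j)) : ℝ)
  have hdet : G.det ≠ 0 := fun h0 => by
    obtain ⟨v, hv, hvG⟩ := Matrix.exists_vecMul_eq_zero_iff.2 h0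
    refine absurd (negDef_real _ (fun i j => pair_comm k _ _) hneg v hv) (not_lt.2 (le_of_eq ?_))
    rw [Finset.sum_comm]
    refine (Finset.sum_eq_zero fun j _ => ?_).symm
    have h1 : ∑ i, v i * G i j = 0 := by simpa [Matrix.vecMul, dotProduct] using congrFun hvG j
    calc ∑ i, v i * v j * G i j = v j * ∑ i, v i * G i j := by
          rw [Finset.mul_sum]; exact Finset.sum_congr rfl fun i _ => by ring
      _ = 0 := by rw [h1, mul_zero]
  let d : Fin r → ℝ := fun j => B h (curveClass k (C j))
  have hdpos : ∀ j, 0 < d j := fun j => by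
    simp only [d, h]
    rw [form_curveClass k hdim hreg hB hH.1 (hc j), neg_pos]
    exact_mod_cast (hc j).pair_neg k hdim hreg hH
  obtain ⟨s, hs⟩ : ∃ s : Fin r → ℝ, ∀ j, ∑ i, s i * G i j = - d j := by
    refine ⟨Matrix.vecMul (fun j => - d j) G⁻¹, fun j => ?_⟩
    have := congrFun (Matrix.vecMul_vecMul (fun j => - d j) G⁻¹ G) j
    rw [Matrix.nonsing_inv_mul G (isUnit_iff_ne_zero.2 hdet), Matrix.vecMul_one] at this
    exact this
  have hs0 : ∀ i, 0 ≤ s i := nonneg_of_sum_nonpos (fun i j => G i j) (fun i j hne =>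
      (Int.cast_nonneg (pair_nonneg_of_ne k hdim hreg (hc i) (hc j) fun h => hne (hC h)) :
        (0 : ℝ) ≤ (pair k (ClSub.idealMod (C i)) (ClSub.idealMod (C j)) : ℝ)))
    (fun a ha => negDef_real _ (fun i j => pair_comm k _ _) hneg a ha) s fun j => by
      rw [hs j]; linarith [hdpos j]
  have hi : ∀ i j, B (curveClass k (C i)) (curveClass k (C j)) = G i j := fun i j => by
    rw [curveClass_eq k ((hc i).isInvertible k hdim hreg), curveClass_eq k ((hc j).isInvertible k hdim hreg),
      form_curveCl_curveCl k hdim hB]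
  set x := h + ∑ i, s i • curveClass k (C i) with hxdef
  have horth : ∀ j, B x (curveClass k (C j)) = 0 := fun j => by
    simp only [hxdef, map_add, LinearMap.add_apply, map_sum, LinearMap.sum_apply, map_smul,
      LinearMap.smul_apply, smul_eq_mul, hi, hs j]
    simp [d]
  have hxh : 0 < B x h := by
    simp only [hxdef, map_add, LinearMap.add_apply, map_sum, LinearMap.sum_apply, map_smul,
      LinearMap.smul_apply, smul_eq_mul]
    refine add_pos_of_pos_of_nonneg L.pos (Finset.sum_nonneg fun i _ => mul_nonneg (hs0 i) ?_)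
    rw [L.symm]
    exact (hdpos i).le
  refine ⟨x, ?_, hxh, fun I hI => ?_, horth⟩
  · have e : B x x = B x h := by
      conv_lhs => rw [hxdef, map_add]
      rw [← hxdef, map_sum]
      simp only [map_smul, smul_eq_mul, horth, mul_zero, Finset.sum_const_zero, add_zero]
    rw [e]; exact hxh
  · by_cases hI' : ∃ i, C i = I
    · obtain ⟨i, rfl⟩ := hI'
      rw [horth i]
    · push Not at hI'
      simp only [hxdef, map_add, LinearMap.add_apply, map_sum, LinearMap.sum_apply, map_smul,
        LinearMap.smul_apply, smul_eq_mul]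
      refine add_nonneg ?_ (Finset.sum_nonneg fun i _ => mul_nonneg (hs0 i)
        (curve_inter_nonneg k hdim hreg hB (hc i) hI (hI' i)))
      rw [form_curveClass k hdim hreg hB hH.1 hI, neg_nonneg]
      exact_mod_cast (hI.pair_neg k hdim hreg hH).le

end Regular

end Groth.SurfNum
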