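import Groth.Agent.SurfNum.Lattice
import Groth.Agent.Inter.NakaiCor
import Mathlib.LinearAlgebra.Basis.VectorSpace

/-!
# Ampleness of real divisors depends only on the numerical class
-/

universe u

open CategoryTheory CategoryTheory.Limits AlgebraicGeometry TopologicalSpace

namespace Groth.SurfNum

open Groth.Inter

theorem toR_smul {X : Scheme.{u}} (m : ℤ) (T : NumR.CDiv X) :
    NumR.CDiv.toR X (m • T) = (m : ℝ) • NumR.CDiv.toR X T := by
  rw [map_zsmul, Int.cast_smul_eq_zsmul]

theorem toR_apply {X : Scheme.{u}} (T : NumR.CDiv X) (C : NumR.Curve X) :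
    NumR.CDiv.toR X T C = (T C : ℝ) := by
  simp [NumR.CDiv.toR]

/-- A real vector is a real combination of rational vectors in every rational kernel containing it. -/
theorem exists_rat_decomp {X : Scheme.{u}} (T : NumR.CDivR X) :
    ∃ (ι : Type) (F : Finset ι) (c : ι → ℝ) (Z : ι → NumR.CDiv X),
      T = ∑ α ∈ F, c α • NumR.CDiv.toR X (Z α) ∧
      ∀ (a : NumR.Curve X → ℚ), T.sum (fun C x => x * (a C : ℝ)) = 0 →
        ∀ α ∈ F, (Z α).sum (fun C x => (x : ℚ) * a C) = 0 := by
  classical
  let e := Module.Basis.ofVectorSpace ℚ ℝ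
  let F : Finset (Module.Basis.ofVectorSpaceIndex ℚ ℝ) := T.support.biUnion fun C => (e.repr (T C)).support
  have hint : ∀ α, ∃ (N : ℕ) (Z : NumR.CDiv X), 0 < N ∧ Z.support ⊆ T.support ∧
      ∀ C, (Z C : ℚ) = (N : ℚ) * e.repr (T C) α := fun α => by
    let N := ∏ C ∈ T.support, (e.repr (T C) α).den
    refine ⟨N, Finsupp.onFinset T.support
      (fun C => if C ∈ T.support then ((N : ℚ) * e.repr (T C) α).num else 0) (fun C hC => by
        by_contra h; rw [if_neg h] at hC; exact hC rfl), Finset.prod_pos fun C _ => (e.repr (T C) α).pos,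
      Finsupp.support_onFinset_subset, fun C => ?_⟩
    rw [Finsupp.onFinset_apply]
    by_cases hC : C ∈ T.support
    · rw [if_pos hC]
      have h1 : (N : ℚ) * e.repr (T C) α =
          (((∏ D ∈ T.support.erase C, (e.repr (T D) α).den : ℕ) : ℤ) * (e.repr (T C) α).num : ℤ) := by
        simp only [N]
        rw [← Finset.mul_prod_erase T.support _ hC]
        push_cast
        rw [mul_right_comm, mul_comm ((e.repr (T C) α).den : ℚ), Rat.mul_den_eq_num, mul_comm]
      rw [h1, Rat.num_intCast]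
    · rw [if_neg hC, Finsupp.notMem_support_iff.1 hC]
      simp
  choose N Z hN hZs hZ using hint
  refine ⟨_, F, fun α => e α / (N α : ℝ), Z, Finsupp.ext fun C => ?_, fun a ha α _ => ?_⟩
  · rw [Finsupp.finsetSum_apply]
    have h1 : ∀ α, (e α / (N α : ℝ)) * NumR.CDiv.toR X (Z α) C = e.repr (T C) α • e α := fun α => by
      have h2 : ((Z α C : ℤ) : ℝ) = (N α : ℝ) * ((e.repr (T C) α : ℚ) : ℝ) := by
        have := congrArg (fun x : ℚ => (x : ℝ)) (hZ α C)
        push_cast at this
        exact this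
      have h3 : (N α : ℝ) ≠ 0 := Nat.cast_ne_zero.2 (hN α).ne'
      rw [toR_apply, h2, Rat.smul_def]
      field_simp
    simp only [Finsupp.smul_apply, smul_eq_mul, h1]
    by_cases hC : C ∈ T.support
    · conv_lhs => rw [← e.linearCombination_repr (T C), Finsupp.linearCombination_apply]
      exact Finsupp.sum_of_support_subset _ (Finset.subset_biUnion_of_mem (fun C => (e.repr (T C)).support) hC) _
        (by simp)
    · rw [Finsupp.notMem_support_iff.1 hC]
      simp
  · have h1 : ∑ C ∈ T.support, a C • T C = 0 := by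
      rw [← ha]
      exact Finset.sum_congr rfl fun C _ => by rw [Rat.smul_def, mul_comm]
    have h2 : ∑ C ∈ T.support, a C * e.repr (T C) α = 0 := by
      have := congrArg (fun v => e.repr v α) h1
      simpa [map_sum, Finsupp.finsetSum_apply] using this
    rw [Finsupp.sum_of_support_subset _ (hZs α) _ (by simp)]
    calc ∑ C ∈ T.support, (Z α C : ℚ) * a C = (N α : ℚ) * ∑ C ∈ T.support, a C * e.repr (T C) α := by
          rw [Finset.mul_sum]
          exact Finset.sum_congr rfl fun C _ => by rw [hZ]; ring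
      _ = 0 := by rw [h2, mul_zero]

variable (k : Type u) [Field k] {X : Scheme.{u}} [X.Over (Spec (CommRingCat.of k))]
  [IsProper (X ↘ Spec (CommRingCat.of k))] [IsIntegral X]
  (hdim : topologicalKrullDim X = 2) (hreg : ∀ x : X, IsRegularLocalRing (X.presheaf.stalk x))
  [PicGrp.Law X] {B : NumR.N1R k X →ₗ[ℝ] NumR.N1R k X →ₗ[ℝ] ℝ} (hB : NumR.IsIntForm₂ k X B)

/-- The degree of a real divisor on a curve. -/
noncomputable def degOn (B : NumR.N1R k X →ₗ[ℝ] NumR.N1R k X →ₗ[ℝ] ℝ) (C : NumR.Curve X) :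
    NumR.CDivR X →ₗ[ℝ] ℝ :=
  (B.flip (NumR.curveCl k X C.1 C.2.2.2)).comp (NumR.divClR k X)

include hdim hreg hB in
theorem isAmpleRDiv_add {D : NumR.CDivR X} (hD : NumR.IsAmpleRDiv X D) {Z : NumR.CDiv X}
    (hZ : ∀ C : NumR.Curve X, degOn k B C (NumR.CDiv.toR X Z) = 0) (c : ℝ) :
    NumR.IsAmpleRDiv X (D + c • NumR.CDiv.toR X Z) := by
  classical
  rcases eq_or_ne c 0 with rfl | hc
  · simpa using hD
  obtain ⟨n, E, t, hn, ht, hE, rfl⟩ := hD
  obtain ⟨n, rfl⟩ := Nat.exists_eq_succ_of_ne_zero hn.ne'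
  obtain ⟨p, hp⟩ := exists_nat_gt (|c| / t 0)
  have hp0 : (0 : ℝ) < p := lt_of_le_of_lt (div_nonneg (abs_nonneg _) (ht 0).le) hp
  obtain ⟨m, hm, hmt⟩ : ∃ m : ℤ, 0 < c / m ∧ c / m < t 0 := by
    have habs : |c| / p < t 0 := by
      rw [div_lt_iff₀ hp0]; rw [div_lt_iff₀ (ht 0)] at hp; linarith
    rcases lt_or_gt_of_ne hc with h | h
    · refine ⟨-(p : ℤ), ?_, ?_⟩ <;> push_cast <;> rw [div_neg, ← neg_div, ← abs_of_neg h]
      · exact div_pos (abs_pos.2 hc) hp0
      · exact habs
    · refine ⟨(p : ℤ), ?_, ?_⟩ <;> push_cast <;> rw [← abs_of_pos h]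
      · exact div_pos (abs_pos.2 hc) hp0
      · exact habs
  -- the new ample divisor
  obtain ⟨L, hL, hLc⟩ := PicGrp.exists_eq_cls (Additive.toMul (NumR.divCl X (E 0 + m • Z)))
  obtain ⟨L₀, hL₀, hL₀a, hL₀c⟩ := hE 0
  have hLa : CohB1.IsAmple L := by
    refine isAmple_of_curveEq k hL₀a hL (curveEq_of_forall k fun C h1 h2 => ?_)
    have hC : IsCurve C := ⟨h1, h2⟩
    have hCi := hC.isInvertible k hdim hreg
    have e0 := deg_eq k (hC.isEffCartier k hdim hreg) hL₀
    have e1 := deg_eq k (hC.isEffCartier k hdim hreg) hL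
    have r0 : NumR.clR k X L₀ hL₀ = NumR.divClR k X (NumR.CDiv.toR X (E 0)) := by
      rw [NumR.divClR_toR, NumR.clR_def, ← hL₀c]; rfl
    have r1 : NumR.clR k X L hL = NumR.divClR k X (NumR.CDiv.toR X (E 0 + m • Z)) := by
      rw [NumR.divClR_toR, NumR.clR_def, NumR.cl, ← hLc, ofMul_toMul]
    have h0 : degOn k B ⟨C, h1, h2, hCi⟩ (NumR.CDiv.toR X Z) = 0 := hZ _
    have r2 : B (NumR.clR k X L hL) (NumR.curveCl k X C hCi) =
        B (NumR.clR k X L₀ hL₀) (NumR.curveCl k X C hCi) := by
      rw [r0, r1, map_add, toR_smul, map_add, map_smul, map_add, map_smul, LinearMap.add_apply,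
        LinearMap.smul_apply, smul_eq_mul]
      change _ + (m : ℝ) * degOn k B ⟨C, h1, h2, hCi⟩ (NumR.CDiv.toR X Z) = _
      rw [h0, mul_zero, add_zero]
    rw [form_curveCl k hdim hB, form_curveCl k hdim hB, neg_inj, Int.cast_inj] at r2
    linarith
  refine ⟨n + 2, Fin.cons (E 0 + m • Z) E, Fin.cons (c / m) (Function.update t 0 (t 0 - c / m)), by omega,
    fun i => ?_, fun i => ?_, ?_⟩
  · refine Fin.cases ?_ (fun j => ?_) i
    · simpa using hm
    · simp only [Fin.cons_succ, Function.update_apply]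
      split
      · linarith
      · exact ht j
  · refine Fin.cases ⟨L, hL, hLa, ?_⟩ (fun j => ?_) i
    · rw [← hLc, ofMul_toMul, Fin.cons_zero]
    · rw [Fin.cons_succ]; exact hE j
  · have hm0 : (m : ℝ) ≠ 0 := fun h => by simp [h] at hm
    rw [Fin.sum_univ_succ (n := n + 1)]
    simp only [Fin.cons_zero, Fin.cons_succ]
    rw [Fin.sum_univ_succ, Fin.sum_univ_succ (f := fun i => Function.update t 0 (t 0 - c / m) i • _)]
    simp only [Function.update_self, Function.update_of_ne (Fin.succ_ne_zero _), map_add, toR_smul]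
    rw [smul_add, smul_smul, div_mul_cancel₀ c hm0, sub_smul]
    abel

include hdim hreg hB in
/-- Ampleness of a real divisor depends only on its degrees on curves. -/
theorem isAmpleRDiv_of_deg_eq {D D' : NumR.CDivR X} (hD : NumR.IsAmpleRDiv X D)
    (h : ∀ C : NumR.Curve X, degOn k B C (D' - D) = 0) : NumR.IsAmpleRDiv X D' := by
  classical
  obtain ⟨ι, F, c, Z, hsum, hker⟩ := exists_rat_decomp (D' - D)
  have hZ : ∀ α ∈ F, ∀ C : NumR.Curve X, degOn k B C (NumR.CDiv.toR X (Z α)) = 0 := by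
    intro α hα C
    let a : NumR.Curve X → ℚ := fun D => (pair k (ClSub.idealMod D.1) (ClSub.idealMod C.1) : ℚ)
    have e : ∀ (T : NumR.CDivR X), degOn k B C T = T.sum fun D x => x * (a D : ℝ) := fun T => by
      simp only [degOn, LinearMap.comp_apply, NumR.divClR, Finsupp.linearCombination_apply, map_finsuppSum]
      exact Finset.sum_congr rfl fun D _ => by
        simp only [map_smul, LinearMap.flip_apply, smul_eq_mul, a, form_curveCl_curveCl k hdim hB]
        push_cast
        rfl
    have h1 := hker a ((e _).symm.trans (h C)) α hα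
    rw [e, Finsupp.sum_of_support_subset _ (s := (Z α).support) (fun D hD => by
      simp only [Finsupp.mem_support_iff, toR_apply, ne_eq, Int.cast_eq_zero] at hD ⊢; exact hD) _ (by simp)]
    simp only [toR_apply]
    have h2 := congrArg (fun x : ℚ => (x : ℝ)) h1
    simp only [Finsupp.sum] at h2
    push_cast at h2
    exact h2
  have key : ∀ G ⊆ F, NumR.IsAmpleRDiv X (D + ∑ α ∈ G, c α • NumR.CDiv.toR X (Z α)) := by
    intro G
    induction G using Finset.induction_on with
    | empty => intro _; simpa using hD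
    | @insert α G hα ih =>
      intro hG
      have h1 := isAmpleRDiv_add k hdim hreg hB (ih ((Finset.subset_insert α G).trans hG))
        (hZ α (hG (Finset.mem_insert_self α G))) (c α)
      rw [Finset.sum_insert hα]
      rwa [add_comm (c α • _), ← add_assoc]
  have h3 := key F subset_rfl
  rwa [← hsum, add_sub_cancel] at h3

end Groth.SurfNum
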