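import Mathlib.LinearAlgebra.Matrix.ToLinearEquiv
import Mathlib.Topology.Algebra.Module.FiniteDimension
import Mathlib.Analysis.Convex.Combination
import Mathlib.Analysis.Convex.Hull
import Mathlib.Topology.MetricSpace.Pseudo.Pi
import Mathlib.Topology.Instances.RealVectorSpace
import Mathlib.Tactic.Linarith
import Mathlib.Tactic.Module

/-!
# Lorentzian forms, integral negative definite matrices, lattice points
-/

open Finset

namespace Groth.SurfNum

section Lorentz

variable {V : Type*} [AddCommGroup V] [Module ℝ V]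

/-- A form of signature `(1, n)`, `h` being timelike. -/
structure IsLorentz (B : V →ₗ[ℝ] V →ₗ[ℝ] ℝ) (h : V) : Prop where
  symm : ∀ x y, B x y = B y x
  pos : 0 < B h h
  neg : ∀ z, B z h = 0 → z ≠ 0 → B z z < 0

namespace IsLorentz

variable {B : V →ₗ[ℝ] V →ₗ[ℝ] ℝ} {h : V} (H : IsLorentz B h)

include H

theorem nonpos {z : V} (hz : B z h = 0) : B z z ≤ 0 := by
  rcases eq_or_ne z 0 with rfl | hne
  · simp
  · exact (H.neg z hz hne).le

theorem ne_zero_of_pos {x : V} (hx : 0 < B x x) : B x h ≠ 0 := fun h0 =>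
  absurd hx (not_lt.2 (H.nonpos h0))

/-- The orthogonal of a timelike vector is negative definite. -/
theorem neg_of_orth {x z : V} (hx : 0 < B x x) (hxz : B x z = 0) (hz : z ≠ 0) : B z z < 0 := by
  by_contra hcon
  push Not at hcon
  have hxh := H.ne_zero_of_pos hx
  have e : B ((B z h) • x - (B x h) • z) h = 0 := by
    simp only [map_sub, map_smul, LinearMap.sub_apply, LinearMap.smul_apply, smul_eq_mul]
    ring
  have hw : (B z h) • x - (B x h) • z = 0 := by
    by_contra hne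
    have h1 := H.neg _ e hne
    simp only [map_sub, map_smul, LinearMap.sub_apply, LinearMap.smul_apply, smul_eq_mul, hxz,
      H.symm z x] at h1
    nlinarith [mul_nonneg (mul_self_nonneg (B z h)) hx.le, mul_nonneg (mul_self_nonneg (B x h)) hcon]
  have h2 := congrArg (B x) hw
  simp only [map_sub, map_smul, smul_eq_mul, hxz, mul_zero, sub_zero, map_zero, mul_eq_zero] at h2
  rw [h2.resolve_right hx.ne', zero_smul, zero_sub, neg_eq_zero, smul_eq_zero] at hw
  exact hz (hw.resolve_left hxh)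

/-- Vectors in the forward cone pair positively. -/
theorem pos_pairing {x y : V} (hx : 0 < B x x) (hxh : 0 < B x h) (hy : 0 ≤ B y y) (hyh : 0 < B y h) :
    0 < B x y := by
  have e : B ((B y h) • x - (B x h) • y) h = 0 := by
    simp only [map_sub, map_smul, LinearMap.sub_apply, LinearMap.smul_apply, smul_eq_mul]
    ring
  have h1 := H.nonpos e
  simp only [map_sub, map_smul, LinearMap.sub_apply, LinearMap.smul_apply, smul_eq_mul, H.symm y x] at h1
  have h2 : 0 < B y h * (B y h * B x x) := mul_pos hyh (mul_pos hyh hx)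
  have h3 : 0 ≤ B x h * (B x h * B y y) := mul_nonneg hxh.le (mul_nonneg hxh.le hy)
  have h4 : 0 < (B y h * B x h) * B x y := by nlinarith
  exact pos_of_mul_pos_right h4 (mul_pos hyh hxh).le

/-- The forward cone is stable under sums. -/
theorem pos_add {x y : V} (hx : 0 < B x x) (hxh : 0 < B x h) (hy : 0 < B y y) (hyh : 0 < B y h) :
    0 < B (x + y) (x + y) := by
  have := H.pos_pairing hx hxh hy.le hyh
  simp only [map_add, LinearMap.add_apply, H.symm y x]
  linarith

/-- A nonzero null vector is not orthogonal to `h`. -/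
theorem ne_zero_of_nonneg {y : V} (hy : 0 ≤ B y y) (hne : y ≠ 0) : B y h ≠ 0 := fun h0 =>
  absurd hy (not_le.2 (H.neg y h0 hne))

end IsLorentz

end Lorentz

section IntMatrix

variable {n : ℕ}

theorem quad_nonpos_of_int (G : Fin n → Fin n → ℝ)
    (h : ∀ a : Fin n → ℤ, ∑ i, ∑ j, (a i : ℝ) * a j * G i j ≤ 0) :
    ∀ c : Fin n → ℝ, ∑ i, ∑ j, c i * c j * G i j ≤ 0 := by
  classical
  intro c
  have hd : DenseRange (fun q : Fin n → ℚ => fun i => (q i : ℝ)) :=
    DenseRange.piMap fun _ => Rat.denseRange_cast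
  have hcl : IsClosed {c : Fin n → ℝ | ∑ i, ∑ j, c i * c j * G i j ≤ 0} :=
    isClosed_le (continuous_finsetSum _ fun i _ => continuous_finsetSum _ fun j _ =>
      ((continuous_apply i).mul (continuous_apply j)).mul continuous_const) continuous_const
  refine hd.induction_on (p := fun c => ∑ i, ∑ j, c i * c j * G i j ≤ 0) c hcl fun q => ?_
  obtain ⟨N, hN, hNq⟩ : ∃ N : ℕ, 0 < N ∧ ∀ i, ∃ m : ℤ, (N : ℚ) * q i = m := by
    refine ⟨∏ i, (q i).den, Finset.prod_pos fun i _ => (q i).pos, fun i => ?_⟩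
    refine ⟨(∏ j ∈ Finset.univ.erase i, (q j).den : ℕ) * (q i).num, ?_⟩
    rw [← Finset.mul_prod_erase Finset.univ _ (Finset.mem_univ i)]
    push_cast
    rw [mul_right_comm, mul_comm ((q i).den : ℚ), Rat.mul_den_eq_num, mul_comm]
  choose m hm using hNq
  have hm' : ∀ i, (m i : ℝ) = (N : ℝ) * (q i : ℝ) := fun i => by
    have := congrArg (fun x : ℚ => (x : ℝ)) (hm i)
    push_cast at this
    exact this.symm
  have h1 := h m
  have e : ∑ i, ∑ j, (m i : ℝ) * m j * G i j = (N : ℝ) ^ 2 * ∑ i, ∑ j, (q i : ℝ) * q j * G i j := by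
    rw [Finset.mul_sum]
    refine Finset.sum_congr rfl fun i _ => ?_
    rw [Finset.mul_sum]
    exact Finset.sum_congr rfl fun j _ => by rw [hm', hm']; ring
  rw [e] at h1
  exact nonpos_of_mul_nonpos_right h1 (by positivity) |>.trans le_rfl

/-- An integral matrix with a real kernel vector has an integral one. -/
theorem exists_int_kernel (G : Fin n → Fin n → ℤ) {c : Fin n → ℝ} (hc : c ≠ 0)
    (h : ∀ j, ∑ i, c i * (G i j : ℝ) = 0) : ∃ a : Fin n → ℤ, a ≠ 0 ∧ ∀ j, ∑ i, a i * G i j = 0 := by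
  classical
  let M : Matrix (Fin n) (Fin n) ℤ := Matrix.of G
  have hv : Matrix.vecMul c (M.map (Int.cast : ℤ → ℝ)) = 0 := funext fun j => by
    simpa [Matrix.vecMul, dotProduct, M] using h j
  have hdet : (M.map (Int.cast : ℤ → ℝ)).det = 0 := Matrix.exists_vecMul_eq_zero_iff.1 ⟨c, hc, hv⟩
  have hdet' : M.det = 0 := by
    have e : ((M.det : ℤ) : ℝ) = (M.map (Int.cast : ℤ → ℝ)).det := RingHom.map_det (Int.castRingHom ℝ) M
    rw [hdet] at e
    exact_mod_cast e
  obtain ⟨a, ha, hav⟩ := Matrix.exists_vecMul_eq_zero_iff.2 hdet'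
  exact ⟨a, ha, fun j => by simpa [Matrix.vecMul, dotProduct, M] using congrFun hav j⟩

/-- An integral symmetric matrix negative definite on integral vectors is so on real ones. -/
theorem negDef_real (G : Fin n → Fin n → ℤ) (hsym : ∀ i j, G i j = G j i)
    (hneg : ∀ a : Fin n → ℤ, a ≠ 0 → ∑ i, ∑ j, a i * a j * G i j < 0) :
    ∀ c : Fin n → ℝ, c ≠ 0 → ∑ i, ∑ j, c i * c j * (G i j : ℝ) < 0 := by
  classical
  have hle : ∀ a : Fin n → ℤ, ∑ i, ∑ j, (a i : ℝ) * a j * (G i j : ℝ) ≤ 0 := fun a => by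
    rcases eq_or_ne a 0 with rfl | ha
    · simp
    · exact_mod_cast (hneg a ha).le
  have hsemi := quad_nonpos_of_int _ hle
  intro c hc
  refine lt_of_le_of_ne (hsemi c) fun h0 => ?_
  have hker : ∀ j, ∑ i, c i * (G i j : ℝ) = 0 := by
    intro j
    set v := ∑ i, c i * (G i j : ℝ) with hv
    by_contra hne
    let w : Fin n → ℝ := Pi.single j 1
    have hexp : ∀ t : ℝ, ∑ i, ∑ l, (c i + t * w i) * (c l + t * w l) * (G i l : ℝ) =
        (∑ i, ∑ l, c i * c l * (G i l : ℝ)) + t * (∑ i, ∑ l, c i * w l * (G i l : ℝ)) +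
          t * (∑ i, ∑ l, w i * c l * (G i l : ℝ)) + t * t * ∑ i, ∑ l, w i * w l * (G i l : ℝ) := fun t => by
      simp only [Finset.mul_sum, ← Finset.sum_add_distrib]
      exact Finset.sum_congr rfl fun i _ => Finset.sum_congr rfl fun l _ => by ring
    have w1 : ∑ i, ∑ l, c i * w l * (G i l : ℝ) = v := by
      simp only [w, Pi.single_apply, mul_ite, ite_mul, mul_one, mul_zero, zero_mul, Finset.sum_ite_eq',
        Finset.mem_univ, if_true, hv]
    have w2 : ∑ i, ∑ l, w i * c l * (G i l : ℝ) = v := by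
      rw [Finset.sum_comm, ← w1]
      exact Finset.sum_congr rfl fun i _ => Finset.sum_congr rfl fun l _ => by rw [hsym l i]; ring
    have w3 : ∑ i, ∑ l, w i * w l * (G i l : ℝ) = (G j j : ℝ) := by
      simp only [w, Pi.single_apply, mul_ite, ite_mul, mul_one, one_mul, mul_zero, zero_mul,
        Finset.sum_ite_eq', Finset.mem_univ, if_true]
    have key : ∀ t : ℝ, 2 * t * v + t * t * (G j j : ℝ) ≤ 0 := fun t => by
      have h1 := hsemi fun i => c i + t * w i
      rw [hexp t, h0, w1, w2, w3] at h1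
      linarith
    have h2 := key (v / (1 + |(G j j : ℝ)|))
    have hd : (0 : ℝ) < 1 + |(G j j : ℝ)| := by positivity
    have h3 : 2 * (v / (1 + |(G j j : ℝ)|)) * v + v / (1 + |(G j j : ℝ)|) * (v / (1 + |(G j j : ℝ)|)) * (G j j : ℝ) =
        v ^ 2 / (1 + |(G j j : ℝ)|) ^ 2 * (2 * (1 + |(G j j : ℝ)|) + (G j j : ℝ)) := by field_simp
    rw [h3] at h2
    have h4 : 0 < v ^ 2 / (1 + |(G j j : ℝ)|) ^ 2 * (2 * (1 + |(G j j : ℝ)|) + (G j j : ℝ)) :=
      mul_pos (div_pos (by positivity) (by positivity)) (by linarith [neg_abs_le (G j j : ℝ), abs_nonneg (G j j : ℝ)])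
    linarith
  obtain ⟨a, ha, hav⟩ := exists_int_kernel G hc hker
  refine absurd (hneg a ha) (not_lt.2 (le_of_eq ?_))
  rw [Finset.sum_comm]
  refine (Finset.sum_eq_zero fun j _ => ?_).symm
  calc ∑ i, a i * a j * G i j = a j * ∑ i, a i * G i j := by
        rw [Finset.mul_sum]; exact Finset.sum_congr rfl fun i _ => by ring
    _ = 0 := by rw [hav j, mul_zero]

end IntMatrix

section Lattice

variable {V : Type*} [AddCommGroup V] [Module ℝ V] [TopologicalSpace V] [ContinuousAdd V] [ContinuousSMul ℝ V]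

/-- A point of an open set is a convex combination of rational points of the set. -/
theorem mem_convexHull_lattice {n : ℕ} (b : Module.Basis (Fin n) ℝ V) {U : Set V} (hU : IsOpen U) {y : V}
    (hy : y ∈ U) :
    y ∈ convexHull ℝ {z : V | z ∈ U ∧ ∃ (N : ℕ) (m : Fin n → ℤ), 0 < N ∧ z = (N : ℝ)⁻¹ • ∑ i, (m i : ℝ) • b i} := by
  classical
  obtain ⟨e, he0⟩ : ∃ e : (Fin n → ℝ) →ₗ[ℝ] V, e = b.equivFun.symm.toLinearMap := ⟨_, rfl⟩
  have he : Continuous e := e.continuous_on_pi
  obtain ⟨c, hec⟩ : ∃ c, e c = y := ⟨b.equivFun y, by rw [he0]; exact b.equivFun.symm_apply_apply y⟩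
  have hec' : ∀ v, e v = ∑ i, v i • b i := fun v => by rw [he0]; exact b.equivFun_symm_apply v
  obtain ⟨δ, hδ, hball⟩ := Metric.isOpen_iff.1 (hU.preimage he) c (show e c ∈ U by rwa [hec])
  rcases Nat.eq_zero_or_pos n with rfl | hn
  · refine subset_convexHull _ _ ⟨hy, 1, 0, one_pos, ?_⟩
    simp [← hec, hec']
  obtain ⟨N, hN⟩ := exists_nat_gt (((n : ℝ) + 2) / δ)
  have hn2 : (0 : ℝ) < (n : ℝ) + 2 := by positivity
  have hN0 : (0 : ℝ) < N := lt_trans (by positivity) hN
  have hNn : 0 < N := by exact_mod_cast hN0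
  have hsmall : ((n : ℝ) + 1) / N < δ := by
    rw [div_lt_iff₀ hN0]; rw [div_lt_iff₀ hδ] at hN; nlinarith
  obtain ⟨m, hm⟩ : ∃ m : Fin n → ℤ, ∀ i, m i = ⌊(N : ℝ) * c i⌋ := ⟨_, fun _ => rfl⟩
  obtain ⟨f, hf⟩ : ∃ f : Fin n → ℝ, ∀ i, f i = (N : ℝ) * c i - m i := ⟨_, fun _ => rfl⟩
  have hf0 : ∀ i, 0 ≤ f i := fun i => by rw [hf, hm]; exact sub_nonneg.2 (Int.floor_le _)
  have hf1 : ∀ i, f i ≤ 1 := fun i => by
    have := Int.lt_floor_add_one ((N : ℝ) * c i)
    rw [hf, hm]; linarith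
  have hpt : ∀ a : Fin n → ℤ, (∀ i, |(a i : ℝ) - (N : ℝ) * c i| ≤ (n : ℝ) + 1) →
      e (fun i => (a i : ℝ) / N) ∈ {z : V | z ∈ U ∧ ∃ (N : ℕ) (m : Fin n → ℤ), 0 < N ∧
        z = (N : ℝ)⁻¹ • ∑ i, (m i : ℝ) • b i} := by
    refine fun a ha => ⟨hball (Metric.mem_ball.2 ((dist_pi_lt_iff hδ).2 fun i => ?_)), N, a, hNn, ?_⟩
    · rw [Real.dist_eq, show (a i : ℝ) / N - c i = ((a i : ℝ) - N * c i) / N by field_simp,
        abs_div, abs_of_pos hN0]
      exact lt_of_le_of_lt (div_le_div_of_nonneg_right (ha i) hN0.le) hsmall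
    · rw [hec', Finset.smul_sum]
      exact Finset.sum_congr rfl fun i _ => by rw [smul_smul, div_eq_inv_mul]
  have hp0 := hpt m (fun i => by
    have h1 := hf0 i; have h2 := hf1 i
    rw [hf] at h1 h2
    rw [abs_sub_comm, abs_of_nonneg h1]; linarith)
  have hp : ∀ j, e (fun i => ((m + Pi.single j (n : ℤ) : Fin n → ℤ) i : ℝ) / N) ∈ _ := fun j =>
    hpt (m + Pi.single j (n : ℤ)) fun i => by
      have h1 := hf0 i; have h2 := hf1 i
      rw [hf] at h1 h2
      rcases eq_or_ne i j with rfl | hij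
      · simp only [Pi.add_apply, Pi.single_eq_same, Int.cast_add, Int.cast_natCast]
        rw [abs_le]; constructor <;> linarith
      · simp only [Pi.add_apply, Pi.single_eq_of_ne hij, add_zero]
        rw [abs_le]; constructor <;> linarith [(Nat.cast_nonneg n : (0 : ℝ) ≤ n)]
  have key : y = ∑ j : Fin n, (1 / (n : ℝ)) • ((1 - f j) • e (fun i => (m i : ℝ) / N) +
      f j • e (fun i => ((m + Pi.single j (n : ℤ) : Fin n → ℤ) i : ℝ) / N)) := by
    simp only [← map_smul, ← map_add, ← map_sum, ← hec]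
    refine congrArg e (funext fun i => ?_)
    simp only [Finset.sum_apply, Pi.smul_apply, Pi.add_apply, smul_eq_mul, Int.cast_add]
    have e1 : ∀ j, 1 / (n : ℝ) * ((1 - f j) * ((m i : ℝ) / N) +
        f j * (((m i : ℝ) + ((Pi.single j (n : ℤ) : Fin n → ℤ) i : ℝ)) / N)) =
        1 / (n : ℝ) * ((m i : ℝ) / N) + if j = i then f i / N else 0 := fun j => by
      rcases eq_or_ne j i with rfl | hji
      · rw [Pi.single_eq_same, if_pos rfl]; push_cast; field_simp; ring
      · rw [Pi.single_eq_of_ne hji.symm, if_neg hji]; push_cast; ring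
    rw [Finset.sum_congr rfl fun j _ => e1 j, Finset.sum_add_distrib, Finset.sum_ite_eq', if_pos (Finset.mem_univ _),
      Finset.sum_const, Finset.card_univ, Fintype.card_fin, nsmul_eq_mul]
    rw [hf]
    field_simp
    ring
  rw [key]
  refine (convex_convexHull ℝ _).sum_mem (fun _ _ => by positivity) ?_ fun j _ => ?_
  · rw [Finset.sum_const, Finset.card_univ, Fintype.card_fin, nsmul_eq_mul]
    field_simp
  · exact (convex_convexHull ℝ _) (subset_convexHull _ _ hp0) (subset_convexHull _ _ (hp j))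
      (sub_nonneg.2 (hf1 j)) (hf0 j) (sub_add_cancel _ _)

end Lattice

end Groth.SurfNum
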