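import Groth.Agent.SurfNum.Basic
import Groth.Agent.SurfNum.Regular
import Groth.Agent.SurfNum.Lorentz
import Groth.Agent.Inter.KleimanCor
import Groth.Agent.Misc13.BigNum

/-!
# The intersection form on numerical classes of a surface
-/

universe u

open CategoryTheory CategoryTheory.Limits AlgebraicGeometry TopologicalSpace

namespace Groth.SurfNum

open Groth.Inter

variable (k : Type u) [Field k] {X : Scheme.{u}} [X.Over (Spec (CommRingCat.of k))]
  [IsProper (X ↘ Spec (CommRingCat.of k))] [IsIntegral X]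
  (hdim : topologicalKrullDim X = 2) (hreg : ∀ x : X, IsRegularLocalRing (X.presheaf.stalk x))

include k hdim hreg in
/-- A module orthogonal to every curve is numerically trivial. -/
theorem isNumEquivZero_of_pair_eq_zero {N : X.Modules} (hN : PicF.IsInvertible N)
    (h : ∀ I : X.IdealSheafData, IsCurve I → pair k (ClSub.idealMod I) N = 0) :
    Pic13.IsNumEquivZero k X N := by
  have hNo : IsNoetherian X := Groth.Inter.isNoetherian k
  have hO := EulerDeg.isInvertible_structureModule X
  have hce : CurveEq k N (Coh.structureModule X) := curveEq_of_forall k fun C h1 h2 => by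
    have hC : IsCurve C := ⟨h1, h2⟩
    have e := deg_eq k (hC.isEffCartier k hdim hreg) hN
    rw [h C hC, neg_zero, sub_eq_zero] at e
    rw [e]
    exact EulerDeg.euler_congr k ((Groth.Inter.tensor_comm _ _).some ≪≫ (tensor_one _).some).symm
  intro Y i _ hY hd
  have : IsLocallyNoetherian Y := LocallyOfFiniteType.isLocallyNoetherian i
  obtain ⟨hc, hs⟩ := push_structure_facts (X := X) i
  have hd' : topologicalKrullDim (CohB1.support ((Coh.push i).obj (Coh.structureModule Y))) ≤
      ((1 : ℕ) : WithBot ℕ∞) := by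
    rw [hs, ← i.isClosedEmbedding.isEmbedding.toHomeomorph.isHomeomorph.topologicalKrullDim_eq _, hd]
    rfl
  rw [curveDeg_eq k i hN (by rw [hd]; rfl), delta_one_eq k hN hO hce hc hd', delta_cons, delta_nil, delta_nil,
    EulerDeg.euler_congr k (tensor_one _).some, sub_self, neg_zero]

variable [PicGrp.Law X]

omit [IsProper (X ↘ Spec (CommRingCat.of k))] [IsIntegral X] in
theorem clR_inverse {L M : X.Modules} (hL : PicF.IsInvertible L) (hM : PicF.IsInvertible M)
    (h : ClSub.IsInverseOf L M) : NumR.clR k X M hM = - NumR.clR k X L hL := by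
  refine eq_neg_of_add_eq_zero_right ?_
  rw [← Misc13.BigNum.clR_tensor, NumR.clR_def, NumR.cl, (PicGrp.cls_eq_one_iff _).2 h, ofMul_one, map_zero, map_zero]

omit [IsProper (X ↘ Spec (CommRingCat.of k))] [IsIntegral X] in
/-- An integral combination of classes is a class. -/
theorem exists_clR_eq_sum {ι : Type*} [Fintype ι] (A : ι → X.Modules) (hA : ∀ i, PicF.IsInvertible (A i))
    (a : ι → ℤ) : ∃ (N : X.Modules) (hN : PicF.IsInvertible N),
      NumR.cl k X N hN = ∑ i, a i • NumR.cl k X (A i) (hA i) ∧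
      NumR.clR k X N hN = ∑ i, (a i : ℝ) • NumR.clR k X (A i) (hA i) := by
  obtain ⟨N, hN, h⟩ := NumR.exists_eq_cl (∑ i, a i • NumR.cl k X (A i) (hA i))
  refine ⟨N, hN, h.symm, ?_⟩
  rw [NumR.clR_def, ← h, map_sum]
  exact Finset.sum_congr rfl fun i _ => by rw [map_zsmul, Int.cast_smul_eq_zsmul, NumR.clR_def]

variable {B : NumR.N1R k X →ₗ[ℝ] NumR.N1R k X →ₗ[ℝ] ℝ} (hB : NumR.IsIntForm₂ k X B)

include hdim hB in
theorem form_clR {L M : X.Modules} (hL : PicF.IsInvertible L) (hM : PicF.IsInvertible M) :
    B (NumR.clR k X L hL) (NumR.clR k X M hM) = (pair k L M : ℝ) := by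
  rw [hB L M hL hM, intNum_eq_pair k hdim.le]

include hdim hB in
theorem form_symm (x y : NumR.N1R k X) : B x y = B y x := by
  suffices h : B = B.flip from congr($h x y)
  refine LinearMap.ext_on (NumR.span_clR (k := k) (X := X)) ?_
  rintro _ ⟨L, hL, rfl⟩
  refine LinearMap.ext_on (NumR.span_clR (k := k) (X := X)) ?_
  rintro _ ⟨M, hM, rfl⟩
  rw [LinearMap.flip_apply, form_clR k hdim hB hL hM, form_clR k hdim hB hM hL, pair_comm k]

include hdim hB in
/-- The pairing of a class with a curve. -/
theorem form_curveCl {L : X.Modules} (hL : PicF.IsInvertible L) {I : X.IdealSheafData}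
    (hI : PicF.IsInvertible (ClSub.idealMod I)) :
    B (NumR.clR k X L hL) (NumR.curveCl k X I hI) = - (pair k (ClSub.idealMod I) L : ℝ) := by
  rw [NumR.curveCl, map_neg, form_clR k hdim hB hL hI, pair_comm k]

include hdim hB in
theorem form_curveCl_curveCl {I J : X.IdealSheafData} (hI : PicF.IsInvertible (ClSub.idealMod I))
    (hJ : PicF.IsInvertible (ClSub.idealMod J)) :
    B (NumR.curveCl k X I hI) (NumR.curveCl k X J hJ) = (pair k (ClSub.idealMod I) (ClSub.idealMod J) : ℝ) := by
  rw [NumR.curveCl, NumR.curveCl, map_neg, map_neg, LinearMap.neg_apply, neg_neg, form_clR k hdim hB hI hJ]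

include hdim hreg hB in
/-- A class orthogonal to all curves is zero. -/
theorem clR_eq_zero {L : X.Modules} (hL : PicF.IsInvertible L)
    (h : ∀ I : X.IdealSheafData, IsCurve I → pair k (ClSub.idealMod I) L = 0) : NumR.cl k X L hL = 0 :=
  NumR.cl_eq_zero hL (isNumEquivZero_of_pair_eq_zero k hdim hreg hL h)

variable [Module.Finite ℝ (NumR.N1R k X)]

omit [IsProper (X ↘ Spec (CommRingCat.of k))] [IsIntegral X] in
/-- A basis of classes of invertible modules. -/
theorem exists_basis : ∃ (n : ℕ) (b : Module.Basis (Fin n) ℝ (NumR.N1R k X)) (A : Fin n → X.Modules)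
    (hA : ∀ j, PicF.IsInvertible (A j)), ∀ j, b j = NumR.clR k X (A j) (hA j) := by
  let b₀ := Module.Basis.ofSpan (K := ℝ) (V := NumR.N1R k X) (NumR.span_clR (k := k) (X := X)).ge
  have := Module.Finite.finite_basis b₀
  have h : ∀ j, ∃ (M : X.Modules) (hM : PicF.IsInvertible M),
      b₀.reindex (Finite.equivFin _) j = NumR.clR k X M hM := fun j => by
    rw [Module.Basis.reindex_apply]
    exact Module.Basis.ofSpan_subset (K := ℝ) (NumR.span_clR (k := k) (X := X)).ge
      (Set.mem_range_self (f := b₀) ((Finite.equivFin _).symm j))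
  choose A hA hb using h
  exact ⟨_, _, A, hA, hb⟩

include hdim hreg hB in
/-- The intersection form is nondegenerate. -/
theorem eq_zero_of_form {x : NumR.N1R k X}
    (h : ∀ (L : X.Modules) (hL : PicF.IsInvertible L), B x (NumR.clR k X L hL) = 0) : x = 0 := by
  obtain ⟨n, b, A, hA, hb⟩ := exists_basis k (X := X)
  by_contra hx
  let G : Fin n → Fin n → ℤ := fun i j => pair k (A i) (A j)
  have hc : (fun i => b.repr x i) ≠ 0 := fun h0 => hx (b.repr.injective (Finsupp.ext fun i => by
    simpa using congrFun h0 i))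
  obtain ⟨a, ha, hker⟩ := exists_int_kernel G hc fun j => by
    have h1 := h (A j) (hA j)
    rw [← b.sum_repr x, map_sum, LinearMap.sum_apply] at h1
    rw [← h1]
    exact Finset.sum_congr rfl fun i _ => by
      rw [map_smul, LinearMap.smul_apply, smul_eq_mul, hb i, form_clR k hdim hB]
  obtain ⟨N, hN, hNcl, hNR⟩ := exists_clR_eq_sum k A hA a
  have hNb : ∀ v, B (NumR.clR k X N hN) v = 0 := by
    intro v
    suffices h0 : B (NumR.clR k X N hN) = 0 by rw [h0]; rfl
    refine b.ext fun j => ?_
    rw [hb j, LinearMap.zero_apply, hNR, map_sum, LinearMap.sum_apply]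
    calc ∑ i, B ((a i : ℝ) • NumR.clR k X (A i) (hA i)) (NumR.clR k X (A j) (hA j))
        = ∑ i, ((a i * G i j : ℤ) : ℝ) := Finset.sum_congr rfl fun i _ => by
          rw [map_smul, LinearMap.smul_apply, smul_eq_mul, form_clR k hdim hB]
          push_cast; rfl
      _ = 0 := by rw [← Int.cast_sum, hker j, Int.cast_zero]
  have h0 : NumR.cl k X N hN = 0 := clR_eq_zero k hdim hreg hB hN fun I hI => by
    have hIi := hI.isInvertible k hdim hreg
    have h1 := hNb (NumR.clR k X (ClSub.idealMod I) hIi)
    rw [form_clR k hdim hB, pair_comm k] at h1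
    exact_mod_cast h1
  rw [NumR.clR_def, h0, map_zero] at hNR
  have hli := Fintype.linearIndependent_iff.1 b.linearIndependent (fun i => (a i : ℝ))
    (by rw [hNR]; exact Finset.sum_congr rfl fun i _ => by rw [hb i])
  exact ha (funext fun i => by simpa using hli i)

include hdim hreg hB in
/-- Nondegeneracy against curves. -/
theorem eq_zero_of_form' {x : NumR.N1R k X} (h : ∀ v, B x v = 0) : x = 0 :=
  eq_zero_of_form k hdim hreg hB fun _ _ => h _

include hdim hreg hB in
/-- The Hodge index theorem. -/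
theorem isLorentz {H : X.Modules} (hH : CohB1.IsAmple H) : IsLorentz B (NumR.clR k X H hH.1) := by
  have hsym := form_symm k hdim hB
  have hpos : 0 < B (NumR.clR k X H hH.1) (NumR.clR k X H hH.1) := by
    rw [form_clR k hdim hB]
    exact_mod_cast pair_self_pos k hdim hH
  set h := NumR.clR k X H hH.1 with hdef
  obtain ⟨n, b, A, hA, hb⟩ := exists_basis k (X := X)
  let G : Fin n → Fin n → ℝ := fun i j => B (b i) (b j) * B h h - B (b i) h * B (b j) h
  have hexp : ∀ c : Fin n → ℝ, ∑ i, ∑ j, c i * c j * G i j =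
      B (∑ i, c i • b i) (∑ i, c i • b i) * B h h - B (∑ i, c i • b i) h * B (∑ i, c i • b i) h := fun c => by
    simp only [map_sum, LinearMap.sum_apply, map_smul, LinearMap.smul_apply, smul_eq_mul, Finset.sum_mul,
      Finset.mul_sum, G, ← Finset.sum_sub_distrib]
    refine Finset.sum_congr rfl fun i _ => Finset.sum_congr rfl fun j _ => ?_
    rw [hsym (b j) (b i)]
    ring
  have hint : ∀ a : Fin n → ℤ, ∑ i, ∑ j, (a i : ℝ) * a j * G i j ≤ 0 := fun a => by
    obtain ⟨N, hN, -, hNR⟩ := exists_clR_eq_sum k A hA a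
    have e : ∑ i, (a i : ℝ) • b i = NumR.clR k X N hN := by
      rw [hNR]; exact Finset.sum_congr rfl fun i _ => by rw [hb i]
    rw [hexp, e, hdef, form_clR k hdim hB hN hH.1, form_clR k hdim hB hN hN, form_clR k hdim hB hH.1 hH.1,
      sub_nonpos]
    have := mul_le_sq k hdim hH hN
    rw [← pow_two]
    exact_mod_cast this
  have hle : ∀ z, B z h = 0 → B z z ≤ 0 := fun z hz => by
    have h1 := quad_nonpos_of_int G hint (fun i => b.repr z i)
    rw [hexp, b.sum_repr, hz, mul_zero, sub_zero] at h1
    exact nonpos_of_mul_nonpos_left h1 hpos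
  refine ⟨hsym, hpos, fun z hz hne => lt_of_le_of_ne (hle z hz) fun hzz => hne ?_⟩
  refine eq_zero_of_form' k hdim hreg hB fun v => ?_
  set w := v - (B v h / B h h) • h with hw
  have hwh : B w h = 0 := by
    simp only [hw, map_sub, map_smul, LinearMap.sub_apply, LinearMap.smul_apply, smul_eq_mul]
    field_simp
    ring
  have hzw : B z w = B z v := by
    simp only [hw, map_sub, map_smul, smul_eq_mul, hz, mul_zero, sub_zero]
  have key : ∀ t : ℝ, 2 * t * B z w + t * t * B w w ≤ 0 := fun t => by
    have h1 := hle (z + t • w) (by simp [hz, hwh])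
    simp only [map_add, map_smul, LinearMap.add_apply, LinearMap.smul_apply, smul_eq_mul, hzz, hsym w z] at h1
    linarith
  by_contra hzv
  rw [← hzw] at hzv
  have hd : (0 : ℝ) < 1 + |B w w| := by positivity
  have h2 := key (B z w / (1 + |B w w|))
  have h3 : 2 * (B z w / (1 + |B w w|)) * B z w + B z w / (1 + |B w w|) * (B z w / (1 + |B w w|)) * B w w =
      B z w ^ 2 / (1 + |B w w|) ^ 2 * (2 * (1 + |B w w|) + B w w) := by field_simp
  rw [h3] at h2
  have h4 : 0 < B z w ^ 2 / (1 + |B w w|) ^ 2 * (2 * (1 + |B w w|) + B w w) :=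
    mul_pos (div_pos (by positivity) (by positivity)) (by linarith [neg_abs_le (B w w), abs_nonneg (B w w)])
  linarith

end Groth.SurfNum
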